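import Cfsg.Agent.Lib.Helper22.ChevTab
import Cfsg.Prelude.Def_ChevD4

set_option autoImplicit false
set_option maxRecDepth 1000000
set_option maxHeartbeats 0

namespace Cfsg.Agent.Lib.Helper22

def tbD4 : Tb := ⟨24, 4, 1, 0xbb0b20aa0a300009208b08307a0000000000000000000000000000000c30000000b30ab00000000009b09200007206a0000520000000000000000000000000c20000000bb0000a300000009b00008a07200000006204b0000000000000000000000c20000000bb0000a300000009b00000008206a00000005a0430000000000000000000c30000000000b30ab00000009b00000000007a00006205a00003a0000000000000000000bb0b30ab0a300000000000000000000000000005204a04203a0000000000000000c20ba00000000000000000008b08300007206a00000000000000003302b0000000000c30000b200000000000000009300007b0720000000620000000000330000220000000c30000000aa00000000000009300007b00006a00000005a00000003300000001a0000c20000000000a200000000000008b08300000000006205a0000000330000000000130000000000ba0b200000000009208a00000000000000000005304b00000000002b0230000000000ba0000aa00000009200008200000000000000005300004300000002b00001b0000000b20000a200000008a00007a00000000000000004b00003b0000000230000130000000000aa0a200000000008207a00000000000000000004303b00000000001b0130000000000b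a00000000009a00000007306b00000000004a04200000000000002b00000000000b0000b300000009a00000007300000006300005200003a00000000000002300000000a0000000ab00009a00000000006b00000005b05200003a00000000000000001b00000a0000000000a209a00000000000000006305b00004a04200000000000000000001300b00000000000000009308b08307b00000000000000000000000000002a02201a01200000000000000000009300007306b00005300000000003200000002201a00000000000a00000000000000000008a07300000006304b00000003200000002a00001200000000b00000000000000000000008206b00000005b04300003200000002a00001200000000b00000000000000000000000007b00006305b00003b03200000000002201a00000000a00000000000000000000000000000005304a04203b00002a02301b012000000000000000000000000000000000000000000, 0x32320323205403232032320033220332250043322033220320032033522334220320032033335222200003333422220, 0x224222220222202200220002222002202020002002002000300003000030303003303330000300333033033333333353⟩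

theorem tbD4_hneg : Cfsg.Lie.chevD4.negIdx.toList = (List.range tbD4.n).map fun r => tbD4.n - 1 - r := by
  decide +kernel

theorem tbD4_hca : ∀ i < tbD4.l, (Cfsg.Lie.chevD4.cartanSR.getD i #[]).toList =
    (List.range tbD4.n).map fun r => - dc (caLook tbD4.n tbD4.CA i r) := by
  decide +kernel

theorem tbD4_hco : ∀ r < tbD4.n, (Cfsg.Lie.chevD4.coroot.getD r #[]).toList =
    (List.range tbD4.l).map fun i => dc (coLook tbD4.l tbD4.CO r i) := by
  decide +kernel

theorem tbD4_hch0 : allBelow tbD4.n (fun r => decide (rowS Cfsg.Lie.chevD4 r = rowF tbD4 r)) = true := by
  decide +kernel

theorem tbD4_hch : ∀ r < tbD4.n, rowS Cfsg.Lie.chevD4 r = rowF tbD4 r :=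
  fun r hr => of_decide_eq_true (allBelow_iff.1 tbD4_hch0 r hr)

theorem tbD4_hwf : ∀ r < tbD4.n, ∀ e ∈ rowF tbD4 r, ∀ p ∈ e.2, p.1 < tbD4.n := by
  decide +kernel

theorem tbD4_valid : tbD4.Valid Cfsg.Lie.chevD4 where
  hn := rfl
  hl := rfl
  hneg := tbD4_hneg
  hca := tbD4_hca
  hco := tbD4_hco
  hch := tbD4_hch
  hwf := tbD4_hwf

end Cfsg.Agent.Lib.Helper22
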