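import Mathlib

/-!
# RUNG S: arithmetic for `U` being a Sylow subgroup
-/

set_option autoImplicit false

namespace Cfsg.Agent.Lib.Helper22

theorem not_dvd_pow_sub_one {p q d : ℕ} (hp : p.Prime) (hq : p ∣ q) (hd : 0 < d) (hq0 : 0 < q) :
    ¬ p ∣ q ^ d - 1 := by
  intro h
  have h1 : p ∣ q ^ d := dvd_trans hq (dvd_pow_self q (by omega))
  have h2 : 0 < q ^ d := by positivity
  have h3 : p ∣ q ^ d - (q ^ d - 1) := Nat.dvd_sub h1 h
  have h4 : q ^ d - (q ^ d - 1) = 1 := by omega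
  rw [h4] at h3
  exact hp.one_lt.ne' (Nat.dvd_one.1 h3)

/-- a subgroup of order `q ^ N` in a group of order `q ^ N m / c`, `p ∤ m`, is a Sylow subgroup. -/
theorem exists_sylow_of_card {G : Type*} [Group G] [Finite G] {p : ℕ} [Fact p.Prime] (U : Subgroup G)
    {k N c m : ℕ} (hU : Nat.card U = (p ^ k) ^ N) (hG : c * Nat.card G = (p ^ k) ^ N * m) (hm : ¬ p ∣ m) :
    ∃ P : Sylow p G, (P : Subgroup G) = U := by
  have h1 : ¬ p ∣ U.index := by
    intro h
    apply hm
    have h2 := U.card_mul_index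
    rw [hU] at h2
    rw [← h2] at hG
    have h3 : (p ^ k) ^ N * (c * U.index) = (p ^ k) ^ N * m := by rw [← hG]; ring
    have h4 := Nat.eq_of_mul_eq_mul_left (by have := (Fact.out : p.Prime).pos; positivity) h3
    rw [← h4]
    exact Dvd.dvd.mul_left h c
  have h2 : IsPGroup p U := IsPGroup.of_card (n := k * N) (by rw [hU, pow_mul])
  exact ⟨h2.toSylow h1, rfl⟩

end Cfsg.Agent.Lib.Helper22
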