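import Cfsg.Agent.Lib.Helper22.ChevB
import Cfsg.Agent.Lib.Helper22.ChevTabD4

set_option autoImplicit false
set_option maxRecDepth 1000000
set_option maxHeartbeats 0

namespace Cfsg.Agent.Lib.Helper22

def siD4 : ℕ := 0xc0d0e12

def ptD4 : ℕ := 0xe30000da0e20d20000ca0000c20000b30000ba0000a30000aa00009a00008b00009200007b00008200007200006300006b00005a00004a00005300003a00004300003200002200002b00001200001b00000a0000e20000db0da0d20000ca0000c20000ab0000a30000ba0000b200009a00008300007b00009200008a00005b00006a00006200007300004200003a00005300004b00003200001a00001200002b00002300000a0d20e20d20da0000d30d20ca0000bb0000c20000b20000aa00009b0000a200009200007200006a00005300008b00008300004b00004300007b00006200005a00003a00002a00003300002200001a00000a0000130000e20000da0ca0d20000cb0000c200009200008a00008200007a0000330000bb0000b30000ab0000a300007200006a00006200005a00002b00002300001b00001300009b00005200004a00004200003a00000a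

theorem pvD4_hsi : Cfsg.Lie.chevD4.simpleIdx.toList = (List.range tbD4.l).map (simF siD4) := by
  decide +kernel

theorem pvD4_hsl : ∀ i < tbD4.l, simF siD4 i < tbD4.n := by
  decide +kernel

theorem pvD4_hP0 : allBelow tbD4.l (checkP tbD4 siD4 ptD4) = true := by
  decide +kernel

theorem pvD4 : PValid tbD4 siD4 ptD4 Cfsg.Lie.chevD4 where
  V := tbD4_valid
  hsi := pvD4_hsi
  hsl := pvD4_hsl
  hP := allBelow_iff.1 pvD4_hP0

theorem reflD40 : allBelow 4 (fun i => allBelow 24 (fun s => Nat.beq (reflF tbD4 siD4 i s) (piF 28 ptD4 i s))) = true := by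
  decide +kernel

theorem reflD4 (i : ℕ) (hi : i < 4) (s : ℕ) (hs : s < 24) : reflF tbD4 siD4 i s = piF 28 ptD4 i s :=
  Nat.eq_of_beq_eq_true (allBelow_iff.1 (allBelow_iff.1 reflD40 i hi) s hs)

end Cfsg.Agent.Lib.Helper22
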