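import Cfsg.Agent.Lib.Helper22.ChevCF2
import Cfsg.Agent.Lib.Helper22.ChevPTabD4

set_option autoImplicit false
set_option maxRecDepth 1000000
set_option maxHeartbeats 0

namespace Cfsg.Agent.Lib.Helper22

def stD4 : ℕ := 0xff322f0000ff32f32200000f1f11111111111111111111f133f333333333333333333f33222f2222222222222222f2222222f22222222222222f222211111f111111111111f11111000000f0000000000f0000000000000f00000000f000000000000000f000000f00000000000000000f0000f0000000001111111111f11f111111111111111111111ff1111111111133333333333ff333333333332222222222f22f2222222222111111111f1111f11111111111111111f111111f111111111111111f11111111f1111111222222f2222222222f22222200000f000000000000f000000000f00000000000000f0000000f0000000000000000f00000f000000000000000000f000f00000000000000000000f0f1111111111111111111111f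

theorem hszD4 : Cfsg.Lie.chevD4.chain.size = tbD4.n := by decide +kernel

end Cfsg.Agent.Lib.Helper22
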