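import Cfsg.Agent.Lib.Helper22.ChevB
import Cfsg.Agent.Lib.Helper22.ChevTabF4

set_option autoImplicit false
set_option maxRecDepth 1000000
set_option maxHeartbeats 0

namespace Cfsg.Agent.Lib.Helper22

def siF4 : ℕ := 0x18191b21

def ptF4 : ℕ := 0x1a31a219a00019200018a00017b00018200017200016a00016200015300015a00014a00014200013300013a00012300012a00011a00011200010a0000fb0001020000eb0000f20000e20000d30000da0000c30000cb0000b20000bb0000aa00009a0000a300008a00009300008200007a00007200006200006b00005200005b00004a00004200003200003b00002a00002200001a00000a00001319a1a200019b19c19200018a00018200017300017a00016a00015b00016200015200014a00013b00014200013200012a00011b00012200011200010300010a0000fa0000f20000e30000ea0000ca0000bb0000db0000b30000d30000c20000a20000ab00009a00009200008200008b00007a00006a00007300006200005a00004a00005300004200003a00002a00003300002200001200001b00000a0001a219219a00019319218a00018200017a00016200016b00017200015a00015200014300014a00012b00012300013a00013200011300011a00010a0000db0000d30000f30000eb0000ab0001030000fb0000ca0000c200009300008b0000e30000a300009b0000bb0000b300008200007200007b00005a00005200006b00006300004200004b00003a00003200001a00002300002a00001200000a0001a200019a18a19200018b00018200017a00017200014b00010b0001030000fb00016a00014300013b0001330000f20000ea0000e200007b00016300015b00015300012b00012300011b0000da0000d20000ca0000c20000ba0000b200007300006b00006300003b00003300002b0001130000aa0000a200009a00005b00005300004b00002200009300008b00008300004300001a00001200000a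

theorem pvF4_hsi : Cfsg.Lie.chevF4.simpleIdx.toList = (List.range tbF4.l).map (simF siF4) := by
  decide +kernel

theorem pvF4_hsl : ∀ i < tbF4.l, simF siF4 i < tbF4.n := by
  decide +kernel

theorem pvF4_hP0 : allBelow tbF4.l (checkP tbF4 siF4 ptF4) = true := by
  decide +kernel

theorem pvF4 : PValid tbF4 siF4 ptF4 Cfsg.Lie.chevF4 where
  V := tbF4_valid
  hsi := pvF4_hsi
  hsl := pvF4_hsl
  hP := allBelow_iff.1 pvF4_hP0

theorem reflF40 : allBelow 4 (fun i => allBelow 48 (fun s => Nat.beq (reflF tbF4 siF4 i s) (piF 52 ptF4 i s))) = true := by
  decide +kernel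

theorem reflF4 (i : ℕ) (hi : i < 4) (s : ℕ) (hs : s < 48) : reflF tbF4 siF4 i s = piF 52 ptF4 i s :=
  Nat.eq_of_beq_eq_true (allBelow_iff.1 (allBelow_iff.1 reflF40 i hi) s hs)

end Cfsg.Agent.Lib.Helper22
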