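import Cfsg.Agent.Lib.Helper22.ChevCF2
import Cfsg.Agent.Lib.Helper22.ChevPTabF4

set_option autoImplicit false
set_option maxRecDepth 1000000
set_option maxHeartbeats 0

namespace Cfsg.Agent.Lib.Helper22

def stF4 : ℕ := 0xff2f12f012f1121000000112f2212f11200001121000012f3f33333333333333333333333333333333333333333333f322f222222222222222222222222222222222222222222f22f32f123f1231121f23f32112322123112f1231121f32f1231111f11111111111111111111111111111111111111f111122222f222222222222222222222222222222222222f22222333333f3333333333333333333333333333333333f3333330000000f00000000000000000000000000000000f000000011111111f111111111111111111111111111111f11111111222222222f2222222222222222222222222222f2222222223333333333f33333333333333333333333333f333333333311111111111f111111111111111111111111f11111111111111111111111f1111111111111111111111f1111111111112222222222222f22222222222222222222f222222222222211111111111111f111111111111111111f11111111111111000000000000000f0000000000000000f0000000000000000000000000000000f00000000000000f000000000000000000000000000000000f000000000000f00000000000000000000000000000000000f0000000000f0000000000000000000000000000000000000f00000000f000000000000000000000000000000000000000f000000f00000000000000000000111111111111111111111f1111f1111111111111111111111111111111111111111111f11f111111111111111111111122222222222222222222222ff2222222222222222222222233333333333333333333333ff333333333333333333333332222222222222222222222f22f222222222222222222222222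2222222222222222222f2222f22222222222222222222211111111111111111111f111111f111111111111111111112222222222222222222f22222222f2222222222222222222333333333333333333f3333333333f33333333333333333311111111111111111f111111111111f111111111111111111111111111111111f11111111111111f1111111111111111222222222222222f2222222222222222f22222222222222200000000000000f000000000000000000f000000000000000000000000000f00000000000000000000f0000000000000000000000000f0000000000000000000000f00000000000000000000000f000000000000000000000000f000000000001111111111f11111111111111111111111111f1111111111111111111f1111111111111111111111111111f11111111122222222f222222222222222222222222222222f222222221111111f11111111111111111111111111111111f1111111000000f0000000000000000000000000000000000f00000000000f000000000000000000000000000000000000f000000000f00000000000000000000000000000000000000f0000000f0000000000000000000000000000000000000000f00011f111111111111111111111111111111111111111111f112f22222222222222222222222222222222222222222222f2f3333333333333333333333333333333333333333333333f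

theorem hszF4 : Cfsg.Lie.chevF4.chain.size = tbF4.n := by decide +kernel

end Cfsg.Agent.Lib.Helper22
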