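import Cfsg.Agent.Lib.Helper22.ChevTab
import Cfsg.Prelude.Def_ChevG2

set_option autoImplicit false
set_option maxRecDepth 1000000
set_option maxHeartbeats 0

namespace Cfsg.Agent.Lib.Helper22

def tbG2 : Tb := ⟨12, 2, 3, 0x5b00000000000000005300000004a00000003a00000000000000000000000000000000000000000000000000000000000006300000000000000005300000000000000004200000000000000003200000000000000000000000000000000006700000005f00000000000000000000006704c00005e04500000000006304a02a05a04302200000000000000000000000006600000000000006605400000000006305304300000003e00000000000003f02d00000000003a02a01b00000000000000000000000005e00005f05500000000005a05204b00000000000000000000000003600003602403302301b00000000000000000000000006200000000000000000000000004a00000000000000000000000000000000002b00000000000000000000000001300000005a00000000000000000000000004200000000000000000000000000000000002300000000000000000000000000b00000000000000000003a04b05200003e04d00000003f00000000000000000001301a02200000000000001701c00000001700000000000000000003304205200000000000003704400000000000000003700a01b02a00000000000000e01d00000000000000000f00000000000000000001302b04b00a02204300000000000001602c00000f02500000000000000000000000001600000000e00000000000000000000000000000000003b00000000000000002b00000000000000001a00000000000000000a00000000000000000000000000000000000000000000000000000000000003300000002300000001a000000000000000012000000000000000000000000000000000000000000000000000000,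 0x320325432032073256743260, 0x422264620220300373753353⟩

theorem tbG2_hneg : Cfsg.Lie.chevG2.negIdx.toList = (List.range tbG2.n).map fun r => tbG2.n - 1 - r := by
  decide +kernel

theorem tbG2_hca : ∀ i < tbG2.l, (Cfsg.Lie.chevG2.cartanSR.getD i #[]).toList =
    (List.range tbG2.n).map fun r => - dc (caLook tbG2.n tbG2.CA i r) := by
  decide +kernel

theorem tbG2_hco : ∀ r < tbG2.n, (Cfsg.Lie.chevG2.coroot.getD r #[]).toList =
    (List.range tbG2.l).map fun i => dc (coLook tbG2.l tbG2.CO r i) := by
  decide +kernel

theorem tbG2_hch0 : allBelow tbG2.n (fun r => decide (rowS Cfsg.Lie.chevG2 r = rowF tbG2 r)) = true := by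
  decide +kernel

theorem tbG2_hch : ∀ r < tbG2.n, rowS Cfsg.Lie.chevG2 r = rowF tbG2 r :=
  fun r hr => of_decide_eq_true (allBelow_iff.1 tbG2_hch0 r hr)

theorem tbG2_hwf : ∀ r < tbG2.n, ∀ e ∈ rowF tbG2 r, ∀ p ∈ e.2, p.1 < tbG2.n := by
  decide +kernel

theorem tbG2_valid : tbG2.Valid Cfsg.Lie.chevG2 where
  hn := rfl
  hl := rfl
  hneg := tbG2_hneg
  hca := tbG2_hca
  hco := tbG2_hco
  hch := tbG2_hch
  hwf := tbG2_hwf

end Cfsg.Agent.Lib.Helper22
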