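import Cfsg.Agent.Lib.Helper22.USgn
import Cfsg.Agent.Lib.Helper22.ChevTabE6

set_option autoImplicit false
set_option maxRecDepth 1000000
set_option maxHeartbeats 0

namespace Cfsg.Agent.Lib.Helper22

def lvE6 : ℕ := 0x4000000040069cbf40062d2e40062c8540062c7840062c77400623f0400623e3400623e24006233a400623394006232c4005b3a94005b3a84005b39b4005b2f24005aa5d400079934000798640007985400078dd400078dc400078cf40007048400070474000703a40006f914000094c4000094b4000093e40000895400000b7400000b6400000a94000000e4000000d400000013fffffff3ffffff33ffffff23fffff573fffff4a3fffff493ffff76b3ffff6c23ffff6b53ffff6b43fff906f3fff8fc63fff8fb93fff8fb83fff87313fff87243fff87233fff867b3fff867a3fff866d3ffa55a33ffa4d0e3ffa4c653ffa4c583ffa4c573ff9dcd43ff9dcc73ff9dcc63ff9dc1e3ff9dc1d3ff9dc103ff9d3893ff9d3883ff9d37b3ff9d2d23ff96341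

theorem udegE6_0 : allRange 36 36 (degChk tbE6 lvE6) = true := by
  decide +kernel

theorem udegE6 (s : ℕ) (hs : s < 72) (h : 72 ≤ 2 * s) : degChk tbE6 lvE6 s = true := by
  exact allRange_iff.1 udegE6_0 s (by omega) (by omega)

theorem uc1E6_0 : allRange 36 36 (c1Chk (ct1 tbE6) 72) = true := by
  decide +kernel

theorem uc1E6 (s : ℕ) (hs : s < 72) (h : 72 ≤ 2 * s) : c1Chk (ct1 tbE6) 72 s = true := by
  exact allRange_iff.1 uc1E6_0 s (by omega) (by omega)

theorem ulvE6_0 : allRange 36 36 (lvChk 72 lvE6) = true := by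
  decide +kernel

theorem uprimE6_0 : allBelow 72 (primChk tbE6) = true := by
  decide +kernel

theorem usgnE6_0 : allBelow 72 (sgnChk tbE6) = true := by
  decide +kernel

theorem usgnE6 (r : ℕ) (hr : r < 72) : sgnChk tbE6 r = true := allBelow_iff.1 usgnE6_0 r hr

theorem utabE6 : UTabOK tbE6 lvE6 (ct1 tbE6) where
  hdeg := udegE6
  hlv := fun r hr h => allRange_iff.1 ulvE6_0 r (by have : 72 ≤ 2 * r := h; omega) (by have : r < 72 := hr; omega)
  hprim := fun r hr => allBelow_iff.1 uprimE6_0 r hr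
  hc1 := uc1E6

end Cfsg.Agent.Lib.Helper22
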