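import Cfsg.Agent.Lib.Helper22.ChevB
import Cfsg.Agent.Lib.Helper22.ChevTabE6

set_option autoImplicit false
set_option maxRecDepth 1000000
set_option maxHeartbeats 0

namespace Cfsg.Agent.Lib.Helper22

def siE6 : ℕ := 0x2425272a2e38

def ptE6 : ℕ := 0x27327226a00026200025a00025200024a00024200023a00023200022300022a00021a00020b0002120001fb0002020001f20001e30001ea0001da0001d20001ca0001c20001b30001ba0001a30001aa00019a00018b00019200018200017a00016b00017200016200015a00014b00015200014200013300013a00012300012b00011200011b00010a0000fa0001030000f20000ea0000da0000e30000d20000ca0000ba0000c30000b20000a20000ab00009200009b00008a00008200007a00007200006200006b00005a00004a00005300003a00004300003200002200002b00001a00001200000a26a27200026b26a26200025a00025200024a00024200023a00022b00023200022200021300021a00020a0002020001f30001fa0001ea0001db0001e20001d20001ca0001bb0001c20001b20001aa00019b0001a200019200018300018a00017a00017200016300016a00015a00015200014300014a00012a00011b00013b00011300013300012200010200010b0000fa0000f20000e20000eb0000da0000d20000c20000cb0000ba0000aa0000b30000a200009a00008a00009300008200007a00006a00007300006200005200005b00004a00004200003200003b00002a00001a0000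2300001200000a00027226226a00026326225a26225200024a00024200023300023a00022a00022200021a0002030001fb00021200020a0001f20001ea0001e20001d30001da0001ca0001c20001ab0001a30001ba0001b200019a00019200018a00017b00018200017200016a00015b00016200013a00013200010b00015300014b00012a0001220001030000fb00014300011a0001120000ea0000f30000e20000da0000ca0000d30000c20000ba0000b200009a0000920000ab0000a300008a00008200007200007b00006a00006200005a00004200003a00005300004b00003200002a00002200001200001b00000a00027200026a25a26200025b00025225a24a00024200023a00021b00021300020b00023200022a0002220002020001fa0001f20001ea0001e20001da0001cb0001d20001c20001ba0001b200019300018b0001830001aa0001a200019a00017a00015200014a0001420000f300017300016b00016300013a00013200012a00012200011a0001120000eb0000e30000db00015b00010a0001020000fa0000d20000b20000aa0000a20000cb0000c30000bb00009a00009200008a00007a00008300007200006a00006200005a00005200004a00002a00002200001a00004300003b00003300001200000a00027200026a25226200025a00025300024a00023b00024200023200022a00022200021a00021200020a0001eb0001e30001db0002020001fa0001f20001d20001ca0001c20001ba0001b200017300016b00016300015200014a0001420000d30001aa0001a200019a00015a000193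00018b00018300013a00013200012a00012200011a0001120000cb0000c30000bb0000f20000b20000aa0000a200017b00010a0001020000fa0000eb0000e30000db00009a00009200008a00008200007a00005a00005200004a00007300006b00006300004200003a00003200002a00002200001a00000a00001300027200026a00026224a25a00025200024b00024200023a00023200022a0002220001c20001ba0001b20001aa0001a200019a00017200016a00016200015a00008300021b00021300020b0002030001fb0001f300019200018a00018200017a0001eb0001e30001db0001d300015200014a00014200013a00013200012a00012200011a00011200010a0001020000fa00007b00007300006b0000630000d20000ca0000c20000ba00005b00005300004b00004300003b0000330001cb0000f20000ea0000e20000da0000b20000aa0000a200009a00009200008a00002a00002200001a00001200000a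

theorem pvE6_hsi : Cfsg.Lie.chevE6.simpleIdx.toList = (List.range tbE6.l).map (simF siE6) := by
  decide +kernel

theorem pvE6_hsl : ∀ i < tbE6.l, simF siE6 i < tbE6.n := by
  decide +kernel

theorem pvE6_hP0 : allBelow tbE6.l (checkP tbE6 siE6 ptE6) = true := by
  decide +kernel

theorem pvE6 : PValid tbE6 siE6 ptE6 Cfsg.Lie.chevE6 where
  V := tbE6_valid
  hsi := pvE6_hsi
  hsl := pvE6_hsl
  hP := allBelow_iff.1 pvE6_hP0

theorem reflE60 : allBelow 6 (fun i => allBelow 72 (fun s => Nat.beq (reflF tbE6 siE6 i s) (piF 78 ptE6 i s))) = true := by
  decide +kernel

theorem reflE6 (i : ℕ) (hi : i < 6) (s : ℕ) (hs : s < 72) : reflF tbE6 siE6 i s = piF 78 ptE6 i s :=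
  Nat.eq_of_beq_eq_true (allBelow_iff.1 (allBelow_iff.1 reflE60 i hi) s hs)

end Cfsg.Agent.Lib.Helper22
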