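import Cfsg.Agent.Lib.Helper22.ChevCFChkE8x0
import Cfsg.Agent.Lib.Helper22.ChevCFChkE8x1
import Cfsg.Agent.Lib.Helper22.ChevCFChkE8x2
import Cfsg.Agent.Lib.Helper22.ChevCFChkE8x3
import Cfsg.Agent.Lib.Helper22.ChevCFChkE8x4
import Cfsg.Agent.Lib.Helper22.ChevCFChkE8x5
import Cfsg.Agent.Lib.Helper22.ChevCFChkE8x6
import Cfsg.Agent.Lib.Helper22.ChevCFChkE8x7

set_option autoImplicit false
set_option maxRecDepth 1000000
set_option maxHeartbeats 0

namespace Cfsg.Agent.Lib.Helper22

theorem cfchkE8 (s : ℕ) (hs : s < 240) : rowOK (ct1 tbE8) tbE8 ptE8 stE8 s = true := by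
  rcases Nat.lt_or_ge s 4 with h0 | h0
  · exact allRange_iff.1 cfchkE8_0 s (by omega) (by omega)
  rcases Nat.lt_or_ge s 8 with h1 | h1
  · exact allRange_iff.1 cfchkE8_1 s (by omega) (by omega)
  rcases Nat.lt_or_ge s 12 with h2 | h2
  · exact allRange_iff.1 cfchkE8_2 s (by omega) (by omega)
  rcases Nat.lt_or_ge s 16 with h3 | h3
  · exact allRange_iff.1 cfchkE8_3 s (by omega) (by omega)
  rcases Nat.lt_or_ge s 20 with h4 | h4
  · exact allRange_iff.1 cfchkE8_4 s (by omega) (by omega)
  rcases Nat.lt_or_ge s 24 with h5 | h5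
  · exact allRange_iff.1 cfchkE8_5 s (by omega) (by omega)
  rcases Nat.lt_or_ge s 28 with h6 | h6
  · exact allRange_iff.1 cfchkE8_6 s (by omega) (by omega)
  rcases Nat.lt_or_ge s 32 with h7 | h7
  · exact allRange_iff.1 cfchkE8_7 s (by omega) (by omega)
  rcases Nat.lt_or_ge s 36 with h8 | h8
  · exact allRange_iff.1 cfchkE8_8 s (by omega) (by omega)
  rcases Nat.lt_or_ge s 40 with h9 | h9
  · exact allRange_iff.1 cfchkE8_9 s (by omega) (by omega)
  rcases Nat.lt_or_ge s 44 with h10 | h10
  · exact allRange_iff.1 cfchkE8_10 s (by omega) (by omega)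
  rcases Nat.lt_or_ge s 48 with h11 | h11
  · exact allRange_iff.1 cfchkE8_11 s (by omega) (by omega)
  rcases Nat.lt_or_ge s 52 with h12 | h12
  · exact allRange_iff.1 cfchkE8_12 s (by omega) (by omega)
  rcases Nat.lt_or_ge s 56 with h13 | h13
  · exact allRange_iff.1 cfchkE8_13 s (by omega) (by omega)
  rcases Nat.lt_or_ge s 60 with h14 | h14
  · exact allRange_iff.1 cfchkE8_14 s (by omega) (by omega)
  rcases Nat.lt_or_ge s 64 with h15 | h15
  · exact allRange_iff.1 cfchkE8_15 s (by omega) (by omega)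
  rcases Nat.lt_or_ge s 68 with h16 | h16
  · exact allRange_iff.1 cfchkE8_16 s (by omega) (by omega)
  rcases Nat.lt_or_ge s 72 with h17 | h17
  · exact allRange_iff.1 cfchkE8_17 s (by omega) (by omega)
  rcases Nat.lt_or_ge s 76 with h18 | h18
  · exact allRange_iff.1 cfchkE8_18 s (by omega) (by omega)
  rcases Nat.lt_or_ge s 80 with h19 | h19
  · exact allRange_iff.1 cfchkE8_19 s (by omega) (by omega)
  rcases Nat.lt_or_ge s 84 with h20 | h20
  · exact allRange_iff.1 cfchkE8_20 s (by omega) (by omega)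
  rcases Nat.lt_or_ge s 88 with h21 | h21
  · exact allRange_iff.1 cfchkE8_21 s (by omega) (by omega)
  rcases Nat.lt_or_ge s 92 with h22 | h22
  · exact allRange_iff.1 cfchkE8_22 s (by omega) (by omega)
  rcases Nat.lt_or_ge s 96 with h23 | h23
  · exact allRange_iff.1 cfchkE8_23 s (by omega) (by omega)
  rcases Nat.lt_or_ge s 100 with h24 | h24
  · exact allRange_iff.1 cfchkE8_24 s (by omega) (by omega)
  rcases Nat.lt_or_ge s 104 with h25 | h25
  · exact allRange_iff.1 cfchkE8_25 s (by omega) (by omega)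
  rcases Nat.lt_or_ge s 108 with h26 | h26
  · exact allRange_iff.1 cfchkE8_26 s (by omega) (by omega)
  rcases Nat.lt_or_ge s 112 with h27 | h27
  · exact allRange_iff.1 cfchkE8_27 s (by omega) (by omega)
  rcases Nat.lt_or_ge s 116 with h28 | h28
  · exact allRange_iff.1 cfchkE8_28 s (by omega) (by omega)
  rcases Nat.lt_or_ge s 120 with h29 | h29
  · exact allRange_iff.1 cfchkE8_29 s (by omega) (by omega)
  rcases Nat.lt_or_ge s 124 with h30 | h30
  · exact allRange_iff.1 cfchkE8_30 s (by omega) (by omega)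
  rcases Nat.lt_or_ge s 128 with h31 | h31
  · exact allRange_iff.1 cfchkE8_31 s (by omega) (by omega)
  rcases Nat.lt_or_ge s 132 with h32 | h32
  · exact allRange_iff.1 cfchkE8_32 s (by omega) (by omega)
  rcases Nat.lt_or_ge s 136 with h33 | h33
  · exact allRange_iff.1 cfchkE8_33 s (by omega) (by omega)
  rcases Nat.lt_or_ge s 140 with h34 | h34
  · exact allRange_iff.1 cfchkE8_34 s (by omega) (by omega)
  rcases Nat.lt_or_ge s 144 with h35 | h35
  · exact allRange_iff.1 cfchkE8_35 s (by omega) (by omega)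
  rcases Nat.lt_or_ge s 148 with h36 | h36
  · exact allRange_iff.1 cfchkE8_36 s (by omega) (by omega)
  rcases Nat.lt_or_ge s 152 with h37 | h37
  · exact allRange_iff.1 cfchkE8_37 s (by omega) (by omega)
  rcases Nat.lt_or_ge s 156 with h38 | h38
  · exact allRange_iff.1 cfchkE8_38 s (by omega) (by omega)
  rcases Nat.lt_or_ge s 160 with h39 | h39
  · exact allRange_iff.1 cfchkE8_39 s (by omega) (by omega)
  rcases Nat.lt_or_ge s 164 with h40 | h40
  · exact allRange_iff.1 cfchkE8_40 s (by omega) (by omega)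
  rcases Nat.lt_or_ge s 168 with h41 | h41
  · exact allRange_iff.1 cfchkE8_41 s (by omega) (by omega)
  rcases Nat.lt_or_ge s 172 with h42 | h42
  · exact allRange_iff.1 cfchkE8_42 s (by omega) (by omega)
  rcases Nat.lt_or_ge s 176 with h43 | h43
  · exact allRange_iff.1 cfchkE8_43 s (by omega) (by omega)
  rcases Nat.lt_or_ge s 180 with h44 | h44
  · exact allRange_iff.1 cfchkE8_44 s (by omega) (by omega)
  rcases Nat.lt_or_ge s 184 with h45 | h45
  · exact allRange_iff.1 cfchkE8_45 s (by omega) (by omega)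
  rcases Nat.lt_or_ge s 188 with h46 | h46
  · exact allRange_iff.1 cfchkE8_46 s (by omega) (by omega)
  rcases Nat.lt_or_ge s 192 with h47 | h47
  · exact allRange_iff.1 cfchkE8_47 s (by omega) (by omega)
  rcases Nat.lt_or_ge s 196 with h48 | h48
  · exact allRange_iff.1 cfchkE8_48 s (by omega) (by omega)
  rcases Nat.lt_or_ge s 200 with h49 | h49
  · exact allRange_iff.1 cfchkE8_49 s (by omega) (by omega)
  rcases Nat.lt_or_ge s 204 with h50 | h50
  · exact allRange_iff.1 cfchkE8_50 s (by omega) (by omega)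
  rcases Nat.lt_or_ge s 208 with h51 | h51
  · exact allRange_iff.1 cfchkE8_51 s (by omega) (by omega)
  rcases Nat.lt_or_ge s 212 with h52 | h52
  · exact allRange_iff.1 cfchkE8_52 s (by omega) (by omega)
  rcases Nat.lt_or_ge s 216 with h53 | h53
  · exact allRange_iff.1 cfchkE8_53 s (by omega) (by omega)
  rcases Nat.lt_or_ge s 220 with h54 | h54
  · exact allRange_iff.1 cfchkE8_54 s (by omega) (by omega)
  rcases Nat.lt_or_ge s 224 with h55 | h55
  · exact allRange_iff.1 cfchkE8_55 s (by omega) (by omega)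
  rcases Nat.lt_or_ge s 228 with h56 | h56
  · exact allRange_iff.1 cfchkE8_56 s (by omega) (by omega)
  rcases Nat.lt_or_ge s 232 with h57 | h57
  · exact allRange_iff.1 cfchkE8_57 s (by omega) (by omega)
  rcases Nat.lt_or_ge s 236 with h58 | h58
  · exact allRange_iff.1 cfchkE8_58 s (by omega) (by omega)
  exact allRange_iff.1 cfchkE8_59 s (by omega) (by omega)

end Cfsg.Agent.Lib.Helper22
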