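import Cfsg.Agent.Lib.Helper22.ChevGr2
import Cfsg.Agent.Lib.Helper22.ChevPTabD4
import Cfsg.Agent.Lib.Helper22.UTabD4

set_option autoImplicit false
set_option maxRecDepth 1000000
set_option maxHeartbeats 0

namespace Cfsg.Agent.Lib.Helper22
open Cfsg.Lie Cfsg.Agent.Lib.Helper23

def gtD4 : ℕ := 0xca0000da0000d20000e20000c20000ba0000930000aa00008300006a0000b300008a0000a300007a00007200009a00003200005a00005200002b00004200001b00006200004b00002200003b00001200000a0000e20000ca0000d20000da0000c20000ba0000b200009300008b0000720000ab0000a300008200007a00009a00006a00006200003200005200004a00002b00002300005a00004300003b00001a00001200000a0000da0000ca0000d20000e20000c20000ba0000aa00009300008300006a0000b30000a300008a00007a00009a00007200005a00003200005200004200002b00001b00006200004b00003b00002200001200000a0000ca0000e20000d20000da0000c20000ba0000930000b200008b0000720000ab0000820000a300007a00006a00009a00003200006200005200002b00004a00002300005a00004300001a00003b00001200000a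

/-- the permutation of the roots induced by the diagram symmetry `[2, 1, 3, 0]`. -/
noncomputable def rhoD40 : ℕ → ℕ := piF 28 gtD4 0
/-- the signs of the graph automorphism of the diagram symmetry `[2, 1, 3, 0]`. -/
noncomputable def gamD40 : ℕ → ℤ := fun s => dc (etaF 28 gtD4 0 s)

theorem grBD40 : allBelow 24 (checkB tbD4 gtD4 0) = true := by
  decide +kernel

theorem grID40 : checkGI tbD4 gtD4 0 1 = true := by
  decide +kernel

theorem grFD40 : checkGF tbD4 siD4 gtD4 0 1 (fun i => [2, 1, 3, 0].getD i 0) = true := by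
  decide +kernel

theorem grCD40 : allBelow 24 (checkCo tbD4 gtD4 0) = true := by
  decide +kernel

theorem graphFactsD40 : GraphFacts chevD4 rhoD40 gamD40 (fun i => [2, 1, 3, 0].getD i 0) :=
  graphFacts_of pvD4 usgnD4 grFD40

theorem commuteD40 {F : Type*} [Field F] (hA : AddFact chevD4 F) (s : ℕ) (hs : s < 24) (t u : F) :
    hA.X s t * hA.X (rhoD40 s) u = hA.X (rhoD40 s) u * hA.X s t :=
  commute_of_checkCo tbD4_valid hA (allBelow_iff.1 grCD40 s hs) t u

theorem ordD40 : ∀ s < 24, rhoD40 (rhoD40 (rhoD40 s)) = s ∧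
    gamD40 s * gamD40 (rhoD40 s) * gamD40 (rhoD40 (rhoD40 s)) = 1 ∧
    (rhoD40 s = s → gamD40 s = 1) := by
  decide +kernel

/-- the permutation of the roots induced by the diagram symmetry `[3, 1, 0, 2]`. -/
noncomputable def rhoD41 : ℕ → ℕ := piF 28 gtD4 1
/-- the signs of the graph automorphism of the diagram symmetry `[3, 1, 0, 2]`. -/
noncomputable def gamD41 : ℕ → ℤ := fun s => dc (etaF 28 gtD4 1 s)

theorem grBD41 : allBelow 24 (checkB tbD4 gtD4 1) = true := by
  decide +kernel

theorem grID41 : checkGI tbD4 gtD4 1 0 = true := by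
  decide +kernel

theorem grFD41 : checkGF tbD4 siD4 gtD4 1 0 (fun i => [3, 1, 0, 2].getD i 0) = true := by
  decide +kernel

theorem grCD41 : allBelow 24 (checkCo tbD4 gtD4 1) = true := by
  decide +kernel

theorem graphFactsD41 : GraphFacts chevD4 rhoD41 gamD41 (fun i => [3, 1, 0, 2].getD i 0) :=
  graphFacts_of pvD4 usgnD4 grFD41

theorem commuteD41 {F : Type*} [Field F] (hA : AddFact chevD4 F) (s : ℕ) (hs : s < 24) (t u : F) :
    hA.X s t * hA.X (rhoD41 s) u = hA.X (rhoD41 s) u * hA.X s t :=
  commute_of_checkCo tbD4_valid hA (allBelow_iff.1 grCD41 s hs) t u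

theorem ordD41 : ∀ s < 24, rhoD41 (rhoD41 (rhoD41 s)) = s ∧
    gamD41 s * gamD41 (rhoD41 s) * gamD41 (rhoD41 (rhoD41 s)) = 1 ∧
    (rhoD41 s = s → gamD41 s = 1) := by
  decide +kernel

/-- the permutation of the roots induced by the diagram symmetry `[2, 1, 0, 3]`. -/
noncomputable def rhoD42 : ℕ → ℕ := piF 28 gtD4 2
/-- the signs of the graph automorphism of the diagram symmetry `[2, 1, 0, 3]`. -/
noncomputable def gamD42 : ℕ → ℤ := fun s => dc (etaF 28 gtD4 2 s)

theorem grBD42 : allBelow 24 (checkB tbD4 gtD4 2) = true := by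
  decide +kernel

theorem grID42 : checkGI tbD4 gtD4 2 2 = true := by
  decide +kernel

theorem grFD42 : checkGF tbD4 siD4 gtD4 2 2 (fun i => [2, 1, 0, 3].getD i 0) = true := by
  decide +kernel

theorem grCD42 : allBelow 24 (checkCo tbD4 gtD4 2) = true := by
  decide +kernel

theorem graphFactsD42 : GraphFacts chevD4 rhoD42 gamD42 (fun i => [2, 1, 0, 3].getD i 0) :=
  graphFacts_of pvD4 usgnD4 grFD42

theorem commuteD42 {F : Type*} [Field F] (hA : AddFact chevD4 F) (s : ℕ) (hs : s < 24) (t u : F) :
    hA.X s t * hA.X (rhoD42 s) u = hA.X (rhoD42 s) u * hA.X s t :=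
  commute_of_checkCo tbD4_valid hA (allBelow_iff.1 grCD42 s hs) t u

theorem ordD42 : ∀ s < 24, rhoD42 (rhoD42 s) = s ∧ gamD42 s * gamD42 (rhoD42 s) = 1 ∧
    (rhoD42 s = s → gamD42 s = 1) := by
  decide +kernel

/-- the permutation of the roots induced by the diagram symmetry `[3, 1, 2, 0]`. -/
noncomputable def rhoD43 : ℕ → ℕ := piF 28 gtD4 3
/-- the signs of the graph automorphism of the diagram symmetry `[3, 1, 2, 0]`. -/
noncomputable def gamD43 : ℕ → ℤ := fun s => dc (etaF 28 gtD4 3 s)

theorem grBD43 : allBelow 24 (checkB tbD4 gtD4 3) = true := by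
  decide +kernel

theorem grID43 : checkGI tbD4 gtD4 3 3 = true := by
  decide +kernel

theorem grFD43 : checkGF tbD4 siD4 gtD4 3 3 (fun i => [3, 1, 2, 0].getD i 0) = true := by
  decide +kernel

theorem grCD43 : allBelow 24 (checkCo tbD4 gtD4 3) = true := by
  decide +kernel

theorem graphFactsD43 : GraphFacts chevD4 rhoD43 gamD43 (fun i => [3, 1, 2, 0].getD i 0) :=
  graphFacts_of pvD4 usgnD4 grFD43

theorem commuteD43 {F : Type*} [Field F] (hA : AddFact chevD4 F) (s : ℕ) (hs : s < 24) (t u : F) :
    hA.X s t * hA.X (rhoD43 s) u = hA.X (rhoD43 s) u * hA.X s t :=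
  commute_of_checkCo tbD4_valid hA (allBelow_iff.1 grCD43 s hs) t u

theorem ordD43 : ∀ s < 24, rhoD43 (rhoD43 s) = s ∧ gamD43 s * gamD43 (rhoD43 s) = 1 ∧
    (rhoD43 s = s → gamD43 s = 1) := by
  decide +kernel

theorem graphConjD40 {F : Type*} [Field F] (hA : AddFact chevD4 F) :
    Nonempty (GraphConj chevD4 F hA rhoD40 gamD40) :=
  exists_graphConj tbD4_valid hA (j := 0) (j' := 1) (by decide) (by decide) grID40 grID41
    (allBelow_iff.1 grBD40)

theorem graphConjD41 {F : Type*} [Field F] (hA : AddFact chevD4 F) :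
    Nonempty (GraphConj chevD4 F hA rhoD41 gamD41) :=
  exists_graphConj tbD4_valid hA (j := 1) (j' := 0) (by decide) (by decide) grID41 grID40
    (allBelow_iff.1 grBD41)

theorem graphConjD42 {F : Type*} [Field F] (hA : AddFact chevD4 F) :
    Nonempty (GraphConj chevD4 F hA rhoD42 gamD42) :=
  exists_graphConj tbD4_valid hA (j := 2) (j' := 2) (by decide) (by decide) grID42 grID42
    (allBelow_iff.1 grBD42)

theorem graphConjD43 {F : Type*} [Field F] (hA : AddFact chevD4 F) :
    Nonempty (GraphConj chevD4 F hA rhoD43 gamD43) :=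
  exists_graphConj tbD4_valid hA (j := 3) (j' := 3) (by decide) (by decide) grID43 grID43
    (allBelow_iff.1 grBD43)

end Cfsg.Agent.Lib.Helper22
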