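import Cfsg.Agent.Lib.Helper22.ChevGr2
import Cfsg.Agent.Lib.Helper22.ChevPTabE6
import Cfsg.Agent.Lib.Helper22.UTabE6

set_option autoImplicit false
set_option maxRecDepth 1000000
set_option maxHeartbeats 0

namespace Cfsg.Agent.Lib.Helper22
open Cfsg.Lie Cfsg.Agent.Lib.Helper23

def gtE6 : ℕ := 0x24a00025a00026200026a00025200027200024200023a00023200021a0001c300022a0002120001bb0002020001ab0001930001ea00017300015200013b00012a00022300020b0001b20001fb0001a200018a0001f300019a00018200017a0001e300016a00014b0001320001da0001630001420001d300015a0001ca0000820000f200007b00010a0000eb00007200011a0001030000e200006b0000d20000ca0000b200005b0000c20000aa00005300009a00004300002b0001220001130000fa0000db0000620000bb0000a300004a00009300003a00002200008b00003200001a00001200000a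

/-- the permutation of the roots induced by the diagram symmetry `[5, 1, 4, 3, 2, 0]`. -/
noncomputable def rhoE60 : ℕ → ℕ := piF 78 gtE6 0
/-- the signs of the graph automorphism of the diagram symmetry `[5, 1, 4, 3, 2, 0]`. -/
noncomputable def gamE60 : ℕ → ℤ := fun s => dc (etaF 78 gtE6 0 s)

theorem grBE60 : allBelow 72 (checkB tbE6 gtE6 0) = true := by
  decide +kernel

theorem grIE60 : checkGI tbE6 gtE6 0 0 = true := by
  decide +kernel

theorem grFE60 : checkGF tbE6 siE6 gtE6 0 0 (fun i => [5, 1, 4, 3, 2, 0].getD i 0) = true := by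
  decide +kernel

theorem grCE60 : allBelow 72 (checkCo tbE6 gtE6 0) = true := by
  decide +kernel

theorem graphFactsE60 : GraphFacts chevE6 rhoE60 gamE60 (fun i => [5, 1, 4, 3, 2, 0].getD i 0) :=
  graphFacts_of pvE6 usgnE6 grFE60

theorem commuteE60 {F : Type*} [Field F] (hA : AddFact chevE6 F) (s : ℕ) (hs : s < 72) (t u : F) :
    hA.X s t * hA.X (rhoE60 s) u = hA.X (rhoE60 s) u * hA.X s t :=
  commute_of_checkCo tbE6_valid hA (allBelow_iff.1 grCE60 s hs) t u

theorem ordE60 : ∀ s < 72, rhoE60 (rhoE60 s) = s ∧ gamE60 s * gamE60 (rhoE60 s) = 1 ∧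
    (rhoE60 s = s → gamE60 s = 1) := by
  decide +kernel

theorem graphConjE60 {F : Type*} [Field F] (hA : AddFact chevE6 F) :
    Nonempty (GraphConj chevE6 F hA rhoE60 gamE60) :=
  exists_graphConj tbE6_valid hA (j := 0) (j' := 0) (by decide) (by decide) grIE60 grIE60
    (allBelow_iff.1 grBE60)

end Cfsg.Agent.Lib.Helper22
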