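import Cfsg.Agent.Lib.Helper22.ChevNorm
import Cfsg.Agent.Lib.Helper22.Isog5

set_option autoImplicit false

namespace Cfsg.Agent.Lib.Helper22
open Cfsg.Lie Matrix Cfsg.Agent.Lib.Helper23

noncomputable def checkColNP (p : ℕ) (col : ℕ → ℕ → List Ent) (w1 w2 : List (ℕ × Mono)) (k : ℕ) : Bool :=
  eqVP p (applyWN col w1 [Term.mk k 2 0 0 0 0]) (applyWN col w2 [Term.mk k 2 0 0 0 0])

/-- check of an identity mod `p` between two words, collecting terms after each letter. -/
noncomputable def checkIdNP (p : ℕ) (col : ℕ → ℕ → List Ent) (N : ℕ) (w1 w2 : List (ℕ × Mono)) : Bool :=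
  allBelow N (checkColNP p col w1 w2)

section sem
variable {F : Type*} [Field F] {D : ChevalleyDatum} (p : ℕ) [CharP F p]
variable {M : ℕ → F → Matrix D.Idx D.Idx F} {col : ℕ → ℕ → List Ent}

theorem checkIdNP_sound (h : ColOK D M col) {N : ℕ} (hN : N = D.nroots + D.rank) {w1 w2 : List (ℕ × Mono)}
    (hc : checkIdNP p col N w1 w2 = true) (y : Env F) :
    (w1.map fun q => M q.1 (q.2.eval y)).prod = (w2.map fun q => M q.1 (q.2.eval y)).prod := by
  apply mat_eq_of_cols
  intro k hk
  rw [← evalV_unit y k, applyWN_sound h, applyWN_sound h]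
  exact eqVP_sound p y _ _ (allBelow_iff.1 hc k (hN ▸ hk))

end sem

section tool
variable {K : Type*} [Field K] {D : ChevalleyDatum} {T : Tb}

/-- identities between words in root elements valid in characteristic `p`, from the collecting evaluator. -/
theorem W_eq_of_checkIdNP (V : T.Valid D) (p : ℕ) [CharP K p] (hA : AddFact D K)
    {w1 w2 : List (ℕ × Mono)} (h1 : ∀ q ∈ w1, q.1 < T.n) (h2 : ∀ q ∈ w2, q.1 < T.n)
    (hc : checkIdNP p (colH T 0 0) (Nat.add T.n T.l) w1 w2 = true) (y : Env K) :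
    hA.W (w1.map fun q => (q.1, q.2.eval y)) = hA.W (w2.map fun q => (q.1, q.2.eval y)) := by
  have h := checkIdNP_sound (F := K) p (colH_ok (GT := 0) (IT := 0) V) (by show T.n + T.l = _; rw [V.hn, V.hl]) hc y
  apply Units.ext
  rw [hA.coe_W, hA.coe_W, wordMat_def, wordMat_def, List.map_map, List.map_map]
  have e : ∀ w : List (ℕ × Mono), (∀ q ∈ w, q.1 < T.n) →
      w.map ((fun p : ℕ × K => D.x K p.1 p.2) ∘ fun q => (q.1, q.2.eval y)) =
        w.map fun q => hM D K 0 0 q.1 (q.2.eval y) := by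
    intro w hw
    apply List.map_congr_left
    intro q hq
    simp only [Function.comp]
    rw [hM_x (V.hn ▸ hw q hq)]
  rw [e w1 h1, e w2 h2, h]

end tool

end Cfsg.Agent.Lib.Helper22
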