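import Cfsg.Agent.Lib.Helper22.HCard
import Cfsg.Agent.Lib.Helper22.ChevHChkE7

set_option autoImplicit false
set_option maxRecDepth 1000000
set_option maxHeartbeats 0

namespace Cfsg.Agent.Lib.Helper22

def roE7 : ℕ := 0x246864424686422468442246644224464422246442024644224664222446422224642202464222444422224442202444222224422022442200244222444222224422202442222224222022422200242222222222022222200222220002222222220202222020022202000220200002020000002244422022442200244220222422002242200024220222222002222200022220000222022220200222020002202000020200000020222220002222000022200000220000002002222000022200000220000002000222000002200000020000220000002000002000000300000003000003300000003000003300003330000000300000330000333000333300000003000003300003330003333003333300000003000030300033030033303033330300003330003333003333303333330003533003353303335330035533033553303555330000000300003030003303003330303333033333303000333300333330333333333333300353330335333333533303553333355333355533300355330335533333553303555333355533355553303575333357533355753335775330357553335755335575533577553357955335797533579755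

theorem hcRE7 : ∀ s < 126, ∀ i : Fin 7, wtZ tbE7 i s =
    ∑ j : Fin 7, wtZ tbE7 i (simF siE7 j) * dc (coLook 7 roE7 s j) := by
  decide +kernel

def snfUE7 : Matrix (Fin 7) (Fin 7) ℤ := !![-1, 0, 0, 0, 0, 0, 0; 0, -1, 0, 0, 0, 0, 0; 1, -2, 0, -1, 0, 0, 0; 2, -3, 0, -2, -1, 0, 0; 3, -4, 0, -3, -2, -1, 0; -2, 1, -1, 0, 0, 0, 0; -4, -1, -4, -4, -3, -2, -1]
def snfU'E7 : Matrix (Fin 7) (Fin 7) ℤ := !![-1, 0, 0, 0, 0, 0, 0; 0, -1, 0, 0, 0, 0, 0; 2, -1, 0, 0, 0, -1, 0; -1, 2, -1, 0, 0, 0, 0; 0, -1, 2, -1, 0, 0, 0; 0, 0, -1, 2, -1, 0, 0; 0, 0, 0, -1, 2, 4, -1]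
def snfVE7 : Matrix (Fin 7) (Fin 7) ℤ := !![0, 0, 0, 0, 0, 1, -2; 0, 0, 0, 0, 0, 2, -3; 1, 0, 0, 0, 0, 2, -4; 0, 1, 0, 0, 0, 4, -6; 0, 0, 1, 0, 0, 4, -5; 0, 0, 0, 1, 0, 4, -4; 0, 0, 0, 0, 1, 4, -3]
def snfV'E7 : Matrix (Fin 7) (Fin 7) ℤ := !![-2, 0, 1, 0, 0, 0, 0; 0, -2, 0, 1, 0, 0, 0; 2, -3, 0, 0, 1, 0, 0; 4, -4, 0, 0, 0, 1, 0; 6, -5, 0, 0, 0, 0, 1; -3, 2, 0, 0, 0, 0, 0; -2, 1, 0, 0, 0, 0, 0]
def snfDE7 : Fin 7 → ℕ := ![1, 1, 1, 1, 1, 1, 2]

theorem snf1E7 : snfUE7 * (Matrix.of fun i j : Fin 7 => wtZ tbE7 i (simF siE7 j)) * snfVE7 =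
    Matrix.diagonal fun i => (snfDE7 i : ℤ) := by
  decide +kernel

theorem snf2E7 : snfUE7 * snfU'E7 = 1 := by
  decide +kernel

theorem snf3E7 : snfVE7 * snfV'E7 = 1 := by
  decide +kernel

theorem hcardE7 {F : Type*} [Field F] [Fintype F] (hA : Cfsg.Agent.Lib.Helper23.AddFact Cfsg.Lie.chevE7 F) :
    (∏ i : Fin 7, (Fintype.card F - 1).gcd (snfDE7 i)) * Nat.card (Cfsg.Lie.chevE7.diagonalSubgroup F) =
      (Fintype.card F - 1) ^ 7 :=
  PValid.card_diag (T := tbE7) pvE7 hA hchkE7 hsimE7 (fun s j => dc (coLook 7 roE7 s j)) hcRE7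
    snfUE7 snfU'E7 snfVE7 snfV'E7 snfDE7 snf1E7 snf2E7 snf3E7

end Cfsg.Agent.Lib.Helper22
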