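import Cfsg.Agent.Lib.Helper22.HCard
import Cfsg.Agent.Lib.Helper22.ChevHChkE8

set_option autoImplicit false
set_option maxRecDepth 1000000
set_option maxHeartbeats 0

namespace Cfsg.Agent.Lib.Helper22

def roE8 : ℕ := 0x468ac864268ac864248ac864246ac8642468c8642468a8642468a6642468a8442468a64424688644246686442446864422468644024686442468a6622468a642246886422466864224468642224686420246864224688442246684422446844222468442024684422466644224466442224664420246644224446442224464420244644222246442022464420024644224666422244664222246642202466422244464222244642202446422222464220224642200246422244444222244442202444422222444220224442200244422222244220222442200224422000244222444422222444222024442222224422202244222002442222222422202224222002242220002422222222222022222220022222200022222000022222222220202222202002222020002220200002202000002020000000224444220224442200244422022244220022442200024422022224220022242200022422000024220222222200222222000222220000222200000222022222020022220200022202000022020000020200000002022222200022222000022220000022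200000022000000020022222000022220000022200000022000000020002222000002220000002200000002000022200000022000000020000022000000020000002000000030000000030000003300000000300000033000003330000000030000003300000333000033330000000030000003300000333000033330003333300000000300000033000003330000333300033333003333330000000030000030300003303000333030033330303333303000003330000333300033333003333330333333300003533000335330033353303333533000355330033553303335533003555330335553303555533000000003000003030000330300033303003333030333330333333303000033330003333300333333033333333333333300035333003353330333533333335333003553330335533333355333035553333355533335555333000355330033553303335533333355330035553303355533333555330355553333555533355555330035753303357533333575330355753333557533355575330357753333577533355775333577753300357553033575533335755303557553335575533555755303577553335775533557755335777553035795533357955335579553357795533579955303579753335797533557975335779753357997533579b7533579b77303579755335797553557975535779755357997553579b7553579b9553579b7753579b9753579d975357bd975359bd975379bd975579bd975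

theorem hcRE8 : ∀ s < 240, ∀ i : Fin 8, wtZ tbE8 i s =
    ∑ j : Fin 8, wtZ tbE8 i (simF siE8 j) * dc (coLook 8 roE8 s j) := by
  decide +kernel

def snfUE8 : Matrix (Fin 8) (Fin 8) ℤ := !![-1, 0, 0, 0, 0, 0, 0, 0; 0, -1, 0, 0, 0, 0, 0, 0; 1, -2, 0, -1, 0, 0, 0, 0; 2, -3, 0, -2, -1, 0, 0, 0; 3, -4, 0, -3, -2, -1, 0, 0; 4, -5, 0, -4, -3, -2, -1, 0; -2, 1, -1, 0, 0, 0, 0, 0; -3, -2, -4, -5, -4, -3, -2, -1]
def snfU'E8 : Matrix (Fin 8) (Fin 8) ℤ := !![-1, 0, 0, 0, 0, 0, 0, 0; 0, -1, 0, 0, 0, 0, 0, 0; 2, -1, 0, 0, 0, 0, -1, 0; -1, 2, -1, 0, 0, 0, 0, 0; 0, -1, 2, -1, 0, 0, 0, 0; 0, 0, -1, 2, -1, 0, 0, 0; 0, 0, 0, -1, 2, -1, 0, 0; 0, 0, 0, 0, -1, 2, 4, -1]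
def snfVE8 : Matrix (Fin 8) (Fin 8) ℤ := !![0, 0, 0, 0, 0, 0, 1, -2; 0, 0, 0, 0, 0, 0, 2, -3; 1, 0, 0, 0, 0, 0, 2, -4; 0, 1, 0, 0, 0, 0, 4, -6; 0, 0, 1, 0, 0, 0, 4, -5; 0, 0, 0, 1, 0, 0, 4, -4; 0, 0, 0, 0, 1, 0, 4, -3; 0, 0, 0, 0, 0, 1, 4, -2]
def snfV'E8 : Matrix (Fin 8) (Fin 8) ℤ := !![-2, 0, 1, 0, 0, 0, 0, 0; 0, -2, 0, 1, 0, 0, 0, 0; 2, -3, 0, 0, 1, 0, 0, 0; 4, -4, 0, 0, 0, 1, 0, 0; 6, -5, 0, 0, 0, 0, 1, 0; 8, -6, 0, 0, 0, 0, 0, 1; -3, 2, 0, 0, 0, 0, 0, 0; -2, 1, 0, 0, 0, 0, 0, 0]
def snfDE8 : Fin 8 → ℕ := ![1, 1, 1, 1, 1, 1, 1, 1]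

theorem snf1E8 : snfUE8 * (Matrix.of fun i j : Fin 8 => wtZ tbE8 i (simF siE8 j)) * snfVE8 =
    Matrix.diagonal fun i => (snfDE8 i : ℤ) := by
  decide +kernel

theorem snf2E8 : snfUE8 * snfU'E8 = 1 := by
  decide +kernel

theorem snf3E8 : snfVE8 * snfV'E8 = 1 := by
  decide +kernel

theorem hcardE8 {F : Type*} [Field F] [Fintype F] (hA : Cfsg.Agent.Lib.Helper23.AddFact Cfsg.Lie.chevE8 F) :
    (∏ i : Fin 8, (Fintype.card F - 1).gcd (snfDE8 i)) * Nat.card (Cfsg.Lie.chevE8.diagonalSubgroup F) =
      (Fintype.card F - 1) ^ 8 :=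
  PValid.card_diag (T := tbE8) pvE8 hA hchkE8 hsimE8 (fun s j => dc (coLook 8 roE8 s j)) hcRE8
    snfUE8 snfU'E8 snfVE8 snfV'E8 snfDE8 snf1E8 snf2E8 snf3E8

end Cfsg.Agent.Lib.Helper22
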