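import Cfsg.Agent.Lib.Helper22.Isog5
import Cfsg.Agent.Lib.Helper22.ChevTabF4
import Cfsg.Agent.Lib.Helper22.BruhatAll

set_option autoImplicit false
set_option maxRecDepth 1000000
set_option maxHeartbeats 0

namespace Cfsg.Agent.Lib.Helper22
open Cfsg.Lie Cfsg.Agent.Lib.Helper23

/-- the table of the permutation matrix of the special isogeny of `F4`. -/
def isoGTF4 : ℕ := 0x18a00019200019a0001a200016a00014a00014200018200013a00012a0000f200017a00017200016200010a00015a0001020000da0000ca0001320001220000ea0001520000fa0000d200011a0000e200011200007a0000aa0000720000ba00009200003a0000a200006a00005a0000c20000b200008a00003200008200002a00001a00001200009a00006200005200000a00004a000042000022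
/-- the bit set of the short roots and the short simple coroots of `F4`. -/
def isoITF4 : ℕ := 0x311fe381c7f88

/-- the permutation of the roots induced by the special isogeny of `F4` (it exchanges long and short roots). -/
noncomputable def isoRhoF4 : ℕ → ℕ := piF 52 isoGTF4 0
/-- the exponents of the special isogeny of `F4`: `2` on the short roots, `1` on the long roots. -/
noncomputable def isoLamF4 : ℕ → ℕ := lamF 2 isoITF4

theorem isoTTF4 : chkTT tbF4 isoGTF4 isoITF4 = true := by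
  decide +kernel

theorem isoTCTF4 : chkTCT tbF4 isoGTF4 isoITF4 = true := by
  decide +kernel

theorem isoTETF4 : chkTET tbF4 isoGTF4 isoITF4 = true := by
  decide +kernel

theorem isoInvF4 : allBelow 48 (chkInv 2 tbF4 isoGTF4 isoITF4) = true := by
  decide +kernel

theorem isoRelF4 : allBelow 48 (chkRel 2 tbF4 isoGTF4 isoITF4) = true := by
  decide +kernel

theorem isoNtEF4 : allBelow 48 (fun r => ntChk tbF4 isoITF4 true
    (([(29, 3), (28, 3), (27, 3), (33, 7), (20, 3), (19, 3), (18, 3), (14, 3), (13, 3), (12, 3), (11, 3), (10, 3), (9, 3), (8, 3), (7, 3), (13, 7), (12, 7), (11, 7), (10, 7), (9, 7), (8, 7), (10, 8), (9, 8), (10, 9), (9, 10), (8, 9), (8, 10), (7, 8), (7, 9), (7, 10), (7, 11), (7, 12), (7, 13), (3, 7), (3, 8), (3, 9), (3, 10), (3, 11), (3, 12), (3, 13), (3, 14), (3, 18), (3, 19), (3, 20), (3, 44), (3, 27), (3, 28), (3, 29)] : List (ℕ × ℕ)).getD r (0, 0)).1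
    (([(29, 3), (28, 3), (27, 3), (33, 7), (20, 3), (19, 3), (18, 3), (14, 3), (13, 3), (12, 3), (11, 3), (10, 3), (9, 3), (8, 3), (7, 3), (13, 7), (12, 7), (11, 7), (10, 7), (9, 7), (8, 7), (10, 8), (9, 8), (10, 9), (9, 10), (8, 9), (8, 10), (7, 8), (7, 9), (7, 10), (7, 11), (7, 12), (7, 13), (3, 7), (3, 8), (3, 9), (3, 10), (3, 11), (3, 12), (3, 13), (3, 14), (3, 18), (3, 19), (3, 20), (3, 44), (3, 27), (3, 28), (3, 29)] : List (ℕ × ℕ)).getD r (0, 0)).2 r) = true := by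
  decide +kernel

theorem isoNtCF4 : allBelow 48 (fun r => ntChk tbF4 isoITF4 false
    (([(24, 1), (23, 0), (21, 0), (41, 0), (16, 0), (15, 0), (15, 1), (30, 0), (25, 0), (22, 0), (21, 1), (17, 0), (16, 1), (15, 2), (15, 4), (5, 0), (4, 0), (4, 1), (6, 0), (5, 1), (4, 2), (2, 0), (2, 1), (1, 0), (0, 1), (1, 2), (0, 2), (2, 4), (1, 5), (0, 6), (1, 4), (0, 4), (0, 5), (4, 15), (2, 15), (1, 16), (0, 17), (1, 21), (0, 22), (0, 25), (0, 30), (1, 15), (0, 15), (0, 16), (0, 41), (0, 21), (0, 23), (0, 47)] : List (ℕ × ℕ)).getD r (0, 0)).1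
    (([(24, 1), (23, 0), (21, 0), (41, 0), (16, 0), (15, 0), (15, 1), (30, 0), (25, 0), (22, 0), (21, 1), (17, 0), (16, 1), (15, 2), (15, 4), (5, 0), (4, 0), (4, 1), (6, 0), (5, 1), (4, 2), (2, 0), (2, 1), (1, 0), (0, 1), (1, 2), (0, 2), (2, 4), (1, 5), (0, 6), (1, 4), (0, 4), (0, 5), (4, 15), (2, 15), (1, 16), (0, 17), (1, 21), (0, 22), (0, 25), (0, 30), (1, 15), (0, 15), (0, 16), (0, 41), (0, 21), (0, 23), (0, 47)] : List (ℕ × ℕ)).getD r (0, 0)).2 r) = true := by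
  decide +kernel

/-- the values of `isoRhoF4`. -/
theorem isoRhoF4_eq : ∀ r < 48, isoRhoF4 r = ([3, 7, 8, 0, 9, 11, 18, 1, 2, 4, 15, 5, 16, 21, 23, 10, 12, 19, 6, 17, 22, 13, 20, 14, 33, 27, 34, 25, 30, 41, 28, 35, 37, 24, 26, 31, 42, 32, 43, 45, 46, 29, 36, 38, 47, 39, 40, 44] : List ℕ).getD r 0 := by
  decide +kernel

/-- the values of `isoLamF4`. -/
theorem isoLamF4_eq : ∀ r < 48, isoLamF4 r = ([1, 1, 1, 2, 1, 1, 1, 2, 2, 2, 2, 2, 2, 2, 2, 1, 1, 1, 2, 2, 2, 1, 1, 1, 1, 1, 1, 2, 2, 2, 1, 1, 1, 2, 2, 2, 2, 2, 2, 2, 2, 1, 1, 1, 2, 1, 1, 1] : List ℕ).getD r 0 := by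
  decide +kernel

/-- **The special isogeny of `F4`** over a perfect field of characteristic `2`: an automorphism `α` of the
Chevalley group with `α (x_r(t)) = x_{ρ r}(t ^ λ r)` for ALL roots `r`. -/
theorem exists_isogF4 {K : Type*} [Field K] [CharP K 2] (hperf : ∀ x : K, ∃ y : K, y ^ 2 = x)
    (hA : AddFact chevF4 K) :
    ∃ α : ↥(chevF4.group K) ≃* ↥(chevF4.group K), ∀ r < 48, ∀ t : K,
      (α ⟨hA.X r t, hA.X_mem_group r t⟩ : GL chevF4.Idx K) = hA.X (isoRhoF4 r) (t ^ isoLamF4 r) :=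
  exists_isog_of tbF4_valid 2 (bundle_of_mem K (by simp)) (bruhatPack_of_mem K (by simp)) hperf _ _
    isoTTF4 isoTCTF4 isoTETF4 isoInvF4 isoRelF4 isoNtEF4 isoNtCF4

end Cfsg.Agent.Lib.Helper22
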