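import Cfsg.Agent.Lib.Helper22.Fold8
import Cfsg.Agent.Lib.Helper22.ChevTabD4
import Cfsg.Agent.Lib.Helper22.ChevTabG2
import Cfsg.Agent.Lib.Helper23.TriChkD4

/-! tables for the folding `D4 → G2` -/

set_option autoImplicit false
set_option maxRecDepth 1000000
set_option maxHeartbeats 0

namespace Cfsg.Agent.Lib.Helper22
open Cfsg.Lie Matrix Cfsg.Agent.Lib.Helper23 Cfsg.Agent.Lib.Helper45

def fcolED4L : List (List Ent) := [[⟨0, 3, 0⟩], [⟨1, 3, 0⟩], [⟨2, 3, 0⟩, ⟨3, 3, 0⟩, ⟨6, 2, 0⟩], [⟨4, 2, 0⟩, ⟨7, 3, 0⟩, ⟨8, 3, 0⟩], [⟨5, 2, 0⟩, ⟨10, 2, 0⟩, ⟨11, 2, 0⟩], [⟨9, 2, 0⟩], [⟨14, 2, 0⟩], [⟨12, 2, 0⟩, ⟨13, 2, 0⟩, ⟨18, 2, 0⟩], [⟨15, 3, 0⟩, ⟨16, 3, 0⟩, ⟨19, 2, 0⟩], [⟨17, 2, 0⟩, ⟨20, 3, 0⟩, ⟨21, 3, 0⟩], [⟨22, 3, 0⟩], [⟨23, 3, 0⟩], [⟨24, 2, 0⟩, ⟨26, 2, 0⟩, ⟨27, 2, 0⟩], [⟨25, 2, 0⟩]]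
def fcolRD4L : List (List Ent) := [[⟨0, 3, 0⟩], [⟨1, 3, 0⟩], [⟨2, 3, 0⟩], [], [⟨3, 2, 0⟩], [⟨4, 2, 0⟩], [], [], [], [⟨5, 2, 0⟩], [], [], [⟨7, 2, 0⟩], [], [⟨6, 2, 0⟩], [⟨8, 3, 0⟩], [], [⟨9, 2, 0⟩], [], [], [], [], [⟨10, 3, 0⟩], [⟨11, 3, 0⟩], [⟨12, 2, 0⟩], [⟨13, 2, 0⟩], [], []]
def focD4L : List ℕ := [0, 1, 2, 2, 3, 4, 2, 3, 3, 5, 4, 4, 7, 7, 6, 8, 8, 9, 7, 8, 9, 9, 10, 11, 12, 13, 12, 12]
def forbD4L : List (List ℕ) := [[0, 2, 3], [1]]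
def fcolED4 (k : ℕ) : List Ent := fcolED4L.getD k []
def fcolRD4 (k : ℕ) : List Ent := fcolRD4L.getD k []
def focD4 (k : ℕ) : ℕ := focD4L.getD k 0
def forbD4 (k : ℕ) : List ℕ := forbD4L.getD k []
def fBD4 (m j : ℕ) : ℤ := (([[2, 3, 2, 2], [1, 2, 1, 1], [0, 0, 0, 0], [0, 0, 0, 0]] : List (List ℤ)).getD m []).getD j 0
def frepD4 (i : ℕ) : ℕ := ([0, 1, 0, 0] : List ℕ).getD i 0

theorem foldD4_re : allBelow 14 (chkRE fcolED4 fcolRD4) = true := by decide +kernel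

theorem foldD4_gen : ∀ k < 2, ∀ sg : Bool,
    chkGen tbD4 tbG2 fcolED4 14 ((forbD4 k).map (sgR chevD4 sg), sgR chevG2 sg k) = true := by
  decide +kernel

theorem foldD4_ocE : ∀ k < 14, ∀ en ∈ fcolED4 k, focD4 en.k = k := by decide +kernel

theorem foldD4_ocR : ∀ k < 28, ∀ en ∈ fcolRD4 k, en.k = focD4 k := by decide +kernel

theorem foldD4_up_c0 : allRange 12 12 (triChk (colX tbD4) (fun k => lvN 12 (focD4 k)) 28) = true := by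
  decide +kernel

theorem foldD4_up : ∀ s, 12 ≤ s → s < 24 → (triChk (colX tbD4) (fun k => lvN 12 (focD4 k)) 28) s = true := by
  intro s hs0 hs
  by_cases h0 : s < 24
  · exact allRange_iff.1 foldD4_up_c0 s (by omega) (by omega)
  omega

theorem foldD4_down_c0 : allRange 0 12 (triChk (colX tbD4) (fun k => lvN' 12 (focD4 k)) 28) = true := by
  decide +kernel

theorem foldD4_down : ∀ s, 0 ≤ s → s < 12 → (triChk (colX tbD4) (fun k => lvN' 12 (focD4 k)) 28) s = true := by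
  intro s hs0 hs
  by_cases h0 : s < 12
  · exact allRange_iff.1 foldD4_down_c0 s (by omega) (by omega)
  omega

theorem foldTabD4 : FoldTab chevD4 chevG2 tbD4 tbG2 forbD4 fcolED4 fcolRD4 focD4 where
  V := tbD4_valid
  V' := tbG2_valid
  hcolE := fun k hk => List.getD_eq_default _ _ hk
  hcolR := fun k hk => List.getD_eq_default _ _ hk
  re := foldD4_re
  gen := foldD4_gen
  ocE := foldD4_ocE
  ocR := foldD4_ocR
  up := fun r hr h => by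
    change r < 24 at hr
    change 24 ≤ 2 * r at h
    exact foldD4_up r (by omega) (by omega)
  down := fun r hr h => by
    change 2 * r < 24 at h
    exact foldD4_down r (by omega) (by omega)
  half := triFactsD4.half

end Cfsg.Agent.Lib.Helper22
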