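import Cfsg.Agent.Lib.Helper22.HCard
import Cfsg.Agent.Lib.Helper22.ChevHChkE6

set_option autoImplicit false
set_option maxRecDepth 1000000
set_option maxHeartbeats 0

namespace Cfsg.Agent.Lib.Helper22

def roE6 : ℕ := 0x246442246422244422224422024422244222224222024222222222022222002222222202022202002202000202000002244220224220024220222220022220002220222020022020002020000020222200022200002200000200222000022000002000220000020000200000300000030000330000003000033000333000000300003300033300333300000030003030033030333030003330033330333330035330335330355330000003000303003303033303333303003333033333333333035333335333355333035533335533355533357533357553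

theorem hcRE6 : ∀ s < 72, ∀ i : Fin 6, wtZ tbE6 i s =
    ∑ j : Fin 6, wtZ tbE6 i (simF siE6 j) * dc (coLook 6 roE6 s j) := by
  decide +kernel

def snfUE6 : Matrix (Fin 6) (Fin 6) ℤ := !![-1, 0, 0, 0, 0, 0; 0, -1, 0, 0, 0, 0; 1, -2, 0, -1, 0, 0; 2, -3, 0, -2, -1, 0; -2, 1, -1, 0, 0, 0; -5, 0, -4, -3, -2, -1]
def snfU'E6 : Matrix (Fin 6) (Fin 6) ℤ := !![-1, 0, 0, 0, 0, 0; 0, -1, 0, 0, 0, 0; 2, -1, 0, 0, -1, 0; -1, 2, -1, 0, 0, 0; 0, -1, 2, -1, 0, 0; 0, 0, -1, 2, 4, -1]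
def snfVE6 : Matrix (Fin 6) (Fin 6) ℤ := !![0, 0, 0, 0, 1, -2; 0, 0, 0, 0, 2, -3; 1, 0, 0, 0, 2, -4; 0, 1, 0, 0, 4, -6; 0, 0, 1, 0, 4, -5; 0, 0, 0, 1, 4, -4]
def snfV'E6 : Matrix (Fin 6) (Fin 6) ℤ := !![-2, 0, 1, 0, 0, 0; 0, -2, 0, 1, 0, 0; 2, -3, 0, 0, 1, 0; 4, -4, 0, 0, 0, 1; -3, 2, 0, 0, 0, 0; -2, 1, 0, 0, 0, 0]
def snfDE6 : Fin 6 → ℕ := ![1, 1, 1, 1, 1, 3]

theorem snf1E6 : snfUE6 * (Matrix.of fun i j : Fin 6 => wtZ tbE6 i (simF siE6 j)) * snfVE6 =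
    Matrix.diagonal fun i => (snfDE6 i : ℤ) := by
  decide +kernel

theorem snf2E6 : snfUE6 * snfU'E6 = 1 := by
  decide +kernel

theorem snf3E6 : snfVE6 * snfV'E6 = 1 := by
  decide +kernel

theorem hcardE6 {F : Type*} [Field F] [Fintype F] (hA : Cfsg.Agent.Lib.Helper23.AddFact Cfsg.Lie.chevE6 F) :
    (∏ i : Fin 6, (Fintype.card F - 1).gcd (snfDE6 i)) * Nat.card (Cfsg.Lie.chevE6.diagonalSubgroup F) =
      (Fintype.card F - 1) ^ 6 :=
  PValid.card_diag (T := tbE6) pvE6 hA hchkE6 hsimE6 (fun s j => dc (coLook 6 roE6 s j)) hcRE6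
    snfUE6 snfU'E6 snfVE6 snfV'E6 snfDE6 snf1E6 snf2E6 snf3E6

end Cfsg.Agent.Lib.Helper22
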