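import Cfsg.Agent.Lib.Helper22.IsogG2

set_option autoImplicit false
set_option maxRecDepth 100000

namespace Cfsg.Agent.Lib.Helper22
open Cfsg.Lie Matrix Cfsg.Agent.Lib.Helper23

section tool
variable {K : Type*} [Field K] {D : ChevalleyDatum} {T : Tb}

/-- identities between words in root elements valid in characteristic `p`, from the evaluator. -/
theorem W_eq_of_checkIdP (V : T.Valid D) (p : ℕ) [CharP K p] (hA : AddFact D K) {w1 w2 : List (ℕ × Mono)}
    (h1 : ∀ q ∈ w1, q.1 < T.n) (h2 : ∀ q ∈ w2, q.1 < T.n)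
    (hc : checkIdP p (colH T 0 0) (Nat.add T.n T.l) w1 w2 = true) (y : Env K) :
    hA.W (w1.map fun q => (q.1, q.2.eval y)) = hA.W (w2.map fun q => (q.1, q.2.eval y)) := by
  have h := checkIdP_sound (F := K) p (colH_ok (GT := 0) (IT := 0) V) (by show T.n + T.l = _; rw [V.hn, V.hl]) hc y
  apply Units.ext
  rw [hA.coe_W, hA.coe_W, wordMat_def, wordMat_def, List.map_map, List.map_map]
  have e : ∀ w : List (ℕ × Mono), (∀ q ∈ w, q.1 < T.n) →
      w.map ((fun p : ℕ × K => D.x K p.1 p.2) ∘ fun q => (q.1, q.2.eval y)) =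
        w.map fun q => hM D K 0 0 q.1 (q.2.eval y) := by
    intro w hw
    apply List.map_congr_left
    intro q hq
    simp only [Function.comp]
    rw [hM_x (V.hn ▸ hw q hq)]
  rw [e w1 h1, e w2 h2, h]

end tool

section rel
variable {K : Type*} [Field K] {D : ChevalleyDatum} (hA : AddFact D K)

/-- the product of four root elements. -/
def Phi (r8 r9 r10 r11 : ℕ) (c8 c9 c10 c11 : K) : GL D.Idx K :=
  hA.X r8 c8 * (hA.X r9 c9 * (hA.X r10 c10 * hA.X r11 c11))

/-- the relations in `U` (or `V`) of `G₂` in characteristic `3` used for the Ree groups. -/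
structure ReeRel (ra rb r8 r9 r10 r11 : ℕ) (s : K) : Prop where
  c89 : ∀ x y : K, Commute (hA.X r8 x) (hA.X r9 y)
  c810 : ∀ x y : K, Commute (hA.X r8 x) (hA.X r10 y)
  c811 : ∀ x y : K, Commute (hA.X r8 x) (hA.X r11 y)
  c910 : ∀ x y : K, Commute (hA.X r9 x) (hA.X r10 y)
  c911 : ∀ x y : K, Commute (hA.X r9 x) (hA.X r11 y)
  c1011 : ∀ x y : K, Commute (hA.X r10 x) (hA.X r11 y)
  A : ∀ t T : K, hA.X rb (s * t) * hA.X ra (s * T) = hA.X ra (s * T) * (hA.X rb (s * t) *
    Phi hA r8 r9 r10 r11 (s * (t * T)) (s * (T ^ 2 * t)) (-(s * (T ^ 3 * t))) (-(s * (t ^ 2 * T ^ 3))))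

namespace ReeRel
variable {hA} {ra rb r8 r9 r10 r11 : ℕ} {s : K} (R : ReeRel hA ra rb r8 r9 r10 r11 s)
include R

theorem Phi_mul (a b c d a' b' c' d' : K) :
    Phi hA r8 r9 r10 r11 a b c d * Phi hA r8 r9 r10 r11 a' b' c' d' =
      Phi hA r8 r9 r10 r11 (a + a') (b + b') (c + c') (d + d') := by
  unfold Phi
  rw [hA.X_add, hA.X_add, hA.X_add, hA.X_add]
  have h1 : Commute (hA.X r9 b * (hA.X r10 c * hA.X r11 d)) (hA.X r8 a') :=
    ((R.c89 a' b).symm).mul_left (((R.c810 a' c).symm).mul_left ((R.c811 a' d).symm))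
  have h2 : Commute (hA.X r10 c * hA.X r11 d) (hA.X r9 b') :=
    ((R.c910 b' c).symm).mul_left ((R.c911 b' d).symm)
  have h3 : Commute (hA.X r11 d) (hA.X r10 c') := (R.c1011 c' d).symm
  rw [h1.mul_mul_mul_comm, h2.mul_mul_mul_comm, h3.mul_mul_mul_comm]

theorem Phi_zero : Phi hA r8 r9 r10 r11 0 0 0 0 = 1 := by
  unfold Phi; simp

theorem X8_eq (c : K) : hA.X r8 c = Phi hA r8 r9 r10 r11 c 0 0 0 := by unfold Phi; simp
theorem X9_eq (c : K) : hA.X r9 c = Phi hA r8 r9 r10 r11 0 c 0 0 := by unfold Phi; simp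
theorem X10_eq (c : K) : hA.X r10 c = Phi hA r8 r9 r10 r11 0 0 c 0 := by unfold Phi; simp
theorem X11_eq (c : K) : hA.X r11 c = Phi hA r8 r9 r10 r11 0 0 0 c := by unfold Phi; simp

/-- the image under the twisting map of a general element, brought back to normal form. -/
theorem master (t T c8 c9 c10 c11 : K) :
    hA.W [(rb, s * t), (ra, s * T), (r10, c10), (r11, c11), (r8, c8), (r9, c9)] =
      hA.W [(ra, s * T), (rb, s * t), (r8, s * (t * T) + c8), (r9, s * (T ^ 2 * t) + c9),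
        (r10, -(s * (T ^ 3 * t)) + c10), (r11, -(s * (t ^ 2 * T ^ 3)) + c11)] := by
  have e1 : hA.W [(rb, s * t), (ra, s * T), (r10, c10), (r11, c11), (r8, c8), (r9, c9)] =
      hA.X rb (s * t) * hA.X ra (s * T) * Phi hA r8 r9 r10 r11 c8 c9 c10 c11 := by
    have : hA.X r10 c10 * (hA.X r11 c11 * (hA.X r8 c8 * hA.X r9 c9)) = Phi hA r8 r9 r10 r11 c8 c9 c10 c11 := by
      rw [R.X8_eq, R.X9_eq, R.X10_eq, R.X11_eq, R.Phi_mul, R.Phi_mul, R.Phi_mul]
      simp
    simp only [AddFact.W, List.map_cons, List.map_nil, List.prod_cons, List.prod_nil, mul_one]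
    rw [this, mul_assoc]
  have e2 : ∀ a b c d : K, hA.W [(ra, s * T), (rb, s * t), (r8, a), (r9, b), (r10, c), (r11, d)] =
      hA.X ra (s * T) * (hA.X rb (s * t) * Phi hA r8 r9 r10 r11 a b c d) := by
    intro a b c d
    simp only [AddFact.W, List.map_cons, List.map_nil, List.prod_cons, List.prod_nil, mul_one, Phi]
  rw [e1, e2, R.A, mul_assoc, mul_assoc, R.Phi_mul]

end ReeRel
end rel

section inst
variable {K : Type*} [Field K] [CharP K 3] (hA : AddFact chevG2 K)

theorem g2_commP (r s : ℕ) (hr : r < 12) (hs : s < 12)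
    (hc : checkIdP 3 (colH tbG2 0 0) 14 [(r, ⟨2, 0, 0, 1, 0⟩), (s, ⟨2, 0, 0, 0, 1⟩)]
      [(s, ⟨2, 0, 0, 0, 1⟩), (r, ⟨2, 0, 0, 1, 0⟩)] = true) (x y : K) : Commute (hA.X r x) (hA.X s y) := by
  have h := W_eq_of_checkIdP tbG2_valid 3 hA (by simpa using ⟨hr, hs⟩) (by simpa using ⟨hs, hr⟩) hc (envTU x y)
  simp only [AddFact.W, List.map_cons, List.map_nil, List.prod_cons, List.prod_nil, mul_one, monoT_eval,
    monoU_eval] at h
  exact h

theorem mono_eval_TU (cf a b : ℕ) (t T : K) : Mono.eval (envTU t T) ⟨cf, 0, 0, a, b⟩ = ((dc cf : ℤ) : K) * (t ^ a * T ^ b) := by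
  simp [Mono.eval, envTU]

theorem reeRel_pos : ReeRel hA 7 6 8 9 10 11 1 where
  c89 := g2_commP hA 8 9 (by decide) (by decide) (by decide +kernel)
  c810 := g2_commP hA 8 10 (by decide) (by decide) (by decide +kernel)
  c811 := g2_commP hA 8 11 (by decide) (by decide) (by decide +kernel)
  c910 := g2_commP hA 9 10 (by decide) (by decide) (by decide +kernel)
  c911 := g2_commP hA 9 11 (by decide) (by decide) (by decide +kernel)
  c1011 := g2_commP hA 10 11 (by decide) (by decide) (by decide +kernel)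
  A := by
    intro t T
    have h := W_eq_of_checkIdP tbG2_valid 3 hA
      (w1 := [(6, ⟨2, 0, 0, 1, 0⟩), (7, ⟨2, 0, 0, 0, 1⟩)])
      (w2 := [(7, ⟨2, 0, 0, 0, 1⟩), (6, ⟨2, 0, 0, 1, 0⟩), (8, ⟨2, 0, 0, 1, 1⟩), (9, ⟨2, 0, 0, 1, 2⟩),
        (10, ⟨3, 0, 0, 1, 3⟩), (11, ⟨3, 0, 0, 2, 3⟩)])
      (by decide) (by decide) (by decide +kernel) (envTU t T)
    simp only [AddFact.W, List.map_cons, List.map_nil, List.prod_cons, List.prod_nil, mul_one, mono_eval_TU,
      dc_two, dc_three] at h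
    unfold Phi
    convert h using 2
    · congr 1; simp
    · congr 1; simp
    · congr 1; simp
    · congr 1
      · congr 1; simp
      · congr 1
        · congr 1; simp
        · congr 1
          · congr 1; simp; ring
          · congr 1
            · congr 1; simp; ring
            · congr 1; simp

theorem reeRel_neg : ReeRel hA 4 5 3 2 1 0 (-1) where
  c89 := g2_commP hA 3 2 (by decide) (by decide) (by decide +kernel)
  c810 := g2_commP hA 3 1 (by decide) (by decide) (by decide +kernel)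
  c811 := g2_commP hA 3 0 (by decide) (by decide) (by decide +kernel)
  c910 := g2_commP hA 2 1 (by decide) (by decide) (by decide +kernel)
  c911 := g2_commP hA 2 0 (by decide) (by decide) (by decide +kernel)
  c1011 := g2_commP hA 1 0 (by decide) (by decide) (by decide +kernel)
  A := by
    intro t T
    have h := W_eq_of_checkIdP tbG2_valid 3 hA
      (w1 := [(5, ⟨3, 0, 0, 1, 0⟩), (4, ⟨3, 0, 0, 0, 1⟩)])
      (w2 := [(4, ⟨3, 0, 0, 0, 1⟩), (5, ⟨3, 0, 0, 1, 0⟩), (3, ⟨3, 0, 0, 1, 1⟩), (2, ⟨3, 0, 0, 1, 2⟩),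
        (1, ⟨2, 0, 0, 1, 3⟩), (0, ⟨2, 0, 0, 2, 3⟩)])
      (by decide) (by decide) (by decide +kernel) (envTU t T)
    simp only [AddFact.W, List.map_cons, List.map_nil, List.prod_cons, List.prod_nil, mul_one, mono_eval_TU,
      dc_two, dc_three] at h
    unfold Phi
    convert h using 2
    · congr 1; simp
    · congr 1; simp
    · congr 1; simp
    · congr 1
      · congr 1; simp
      · congr 1
        · congr 1; simp
        · congr 1
          · congr 1; simp; ring
          · congr 1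
            · congr 1; simp; ring
            · congr 1; simp

end inst

end Cfsg.Agent.Lib.Helper22
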