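import Cfsg.Agent.Lib.Helper22.Ree9
import Cfsg.Agent.Lib.Helper45.TwistCount3

set_option autoImplicit false
set_option maxRecDepth 100000

namespace Cfsg.Agent.Lib.Helper22
open Cfsg.Lie Matrix Cfsg.Agent.Lib.Helper23 Cfsg.Agent.Lib.Helper45

/-- a subgroup with a two-element transversal is the kernel of a map onto the group of order 2 -/
theorem exists_hom_zmod2 {G : Type*} [Group G] (H : Subgroup G) (n0 : G) (h0 : n0 ∉ H)
    (hc : ∀ g, g ∈ H ∨ n0⁻¹ * g ∈ H) :
    ∃ φ : G →* Multiplicative (ZMod 2), Function.Surjective φ ∧ φ.ker = H := by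
  have hidx : H.index = 2 := by
    rw [Subgroup.index_eq_two_iff]
    refine ⟨n0, fun g => ?_⟩
    rcases hc g⁻¹ with h | h
    · right
      have hg : g ∈ H := by simpa using inv_mem h
      refine ⟨hg, fun h2 => h0 ?_⟩
      have : n0 = g⁻¹ * (g * n0) := by group
      rw [this]
      exact mul_mem h h2
    · left
      have hg : g * n0 ∈ H := by
        have := inv_mem h
        simpa using this
      refine ⟨hg, fun h2 => h0 ?_⟩
      have : n0 = g⁻¹ * (g * n0) := by group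
      rw [this]
      exact mul_mem (inv_mem h2) hg
  have : H.Normal := Subgroup.normal_of_index_eq_two hidx
  have : Fact (Nat.Prime 2) := ⟨Nat.prime_two⟩
  have h1 : Nat.card (G ⧸ H) = 2 := hidx
  have h2 : Nat.card (Multiplicative (ZMod 2)) = 2 := by
    rw [Nat.card_eq_fintype_card]; rfl
  let e : (G ⧸ H) ≃* Multiplicative (ZMod 2) := mulEquivOfPrimeCardEq h1 h2
  refine ⟨e.toMonoidHom.comp (QuotientGroup.mk' H), e.surjective.comp (QuotientGroup.mk'_surjective H), ?_⟩
  ext g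
  rw [MonoidHom.mem_ker]
  simp

section sigma
variable {K : Type*} [Field K] [CharP K 3] [Fintype K] {m : ℕ} (hK : Fintype.card K = 3 ^ (2 * m + 1))
  (b : Bundle chevG2 K) (α : ↥(chevG2.group K) ≃* ↥(chevG2.group K))
  (hα : ∀ r < 12, ∀ t : K,
    (α ⟨b.hA.X r t, b.hA.X_mem_group r t⟩ : GL chevG2.Idx K) = b.hA.X (isoRhoG2 r) (t ^ isoLamG2 r))

omit [Fintype K] [CharP K 3] in
theorem ree_closure_n0 {x : GL chevG2.Idx K} (hx : x ∈ Subgroup.closure {b.hA.nword reeOm}) :
    x ∈ chevG2.diagonalSubgroup K ∨ (b.hA.nword reeOm)⁻¹ * x ∈ chevG2.diagonalSubgroup K := by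
  obtain ⟨k, rfl⟩ := Subgroup.mem_closure_singleton.1 hx
  have hsq := ree_n0_sq b
  rcases Int.even_or_odd' k with ⟨j, rfl | rfl⟩
  · left
    rw [_root_.zpow_mul, zpow_two]
    exact zpow_mem hsq j
  · right
    rw [_root_.zpow_add, zpow_one, _root_.zpow_mul, zpow_two]
    have : (b.hA.nword reeOm)⁻¹ * ((b.hA.nword reeOm * b.hA.nword reeOm) ^ j * b.hA.nword reeOm) =
        (b.hA.nword reeOm)⁻¹ * (b.hA.nword reeOm * b.hA.nword reeOm) ^ j * b.hA.nword reeOm := by group
    rw [this]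
    exact (sharpBN_of_mem K (D := chevG2) (by simp)).H_norm' (b.hA.nword_mem_mono b.hR reeOm_lt) (zpow_mem hsq j)

omit [Fintype K] [CharP K 3] in
theorem ree_n0_not_borel : b.hA.nword reeOm ∉ chevG2.borelSubgroup K := by
  exact (acts_nword b reeOm_lt).not_mem_borel b (r := 6) (by decide +kernel) (by decide +kernel)

include hK hα in
theorem ree_N_cases {n : GL chevG2.Idx K} (hn : n ∈ chevG2.monomialSubgroup K) (hn1 : n ∈ twistedG2 K (3 ^ m)) :
    n ∈ chevG2.diagonalSubgroup K ∨ (b.hA.nword reeOm)⁻¹ * n ∈ chevG2.diagonalSubgroup K := by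
  obtain ⟨x, hx, h, hh, -, rfl⟩ := (ree_fixBN hK b α hα).N_eq (sharpBN_of_mem K (by simp)) hn hn1
  rcases ree_closure_n0 b hx with h1 | h1
  · exact Or.inl (mul_mem h1 hh)
  · right
    rw [← mul_assoc]
    exact mul_mem h1 hh

end sigma

end Cfsg.Agent.Lib.Helper22
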