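import Cfsg.Agent.Lib.Helper22.Ree10

set_option autoImplicit false
set_option maxRecDepth 100000

namespace Cfsg.Agent.Lib.Helper22
open Cfsg.Lie Matrix Cfsg.Agent.Lib.Helper23 Cfsg.Agent.Lib.Helper45

section sigma
variable {K : Type*} [Field K] [CharP K 3] [Fintype K] {m : ℕ} (hK : Fintype.card K = 3 ^ (2 * m + 1))
  (b : Bundle chevG2 K) (α : ↥(chevG2.group K) ≃* ↥(chevG2.group K))
  (hα : ∀ r < 12, ∀ t : K,
    (α ⟨b.hA.X r t, b.hA.X_mem_group r t⟩ : GL chevG2.Idx K) = b.hA.X (isoRhoG2 r) (t ^ isoLamG2 r))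

include hK hα in
theorem ree_B1_split {g : GL chevG2.Idx K} (hg : g ∈ chevG2.borelSubgroup K) (hg1 : g ∈ twistedG2 K (3 ^ m)) :
    ∃ u ∈ chevG2.posUnipotent K, u ∈ twistedG2 K (3 ^ m) ∧ ∃ h ∈ chevG2.diagonalSubgroup K,
      h ∈ twistedG2 K (3 ^ m) ∧ g = u * h := by
  obtain ⟨u, hu, h, hh, rfl⟩ := (b.hA.mem_borel_iff b.hT).1 hg
  have hσ := ree_isTwist hK b α hα
  have hfix := (ree_G1_fix hK b α hα hg1).2
  rw [hσ.mul _ (b.hA.pos_le_group hu) _ (b.hA.diag_le_group hh)] at hfix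
  set σ := reeSigma b α m with hσdef
  have h1 : u⁻¹ * σ u = h * (σ h)⁻¹ := by
    calc u⁻¹ * σ u = u⁻¹ * (σ u * σ h) * (σ h)⁻¹ := by group
      _ = h * (σ h)⁻¹ := by rw [hfix]; group
  have h2 : u⁻¹ * σ u ∈ chevG2.posUnipotent K ⊓ chevG2.diagonalSubgroup K := by
    refine Subgroup.mem_inf.2 ⟨mul_mem (inv_mem hu) (hσ.map_pos b u hu), ?_⟩
    rw [h1]
    exact mul_mem hh (inv_mem (hσ.map_diag b h hh))
  rw [b.hTri.UH, Subgroup.mem_bot] at h2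
  have h3 : σ u = u := (inv_mul_eq_one.1 h2).symm
  have hu1 : u ∈ twistedG2 K (3 ^ m) := ree_U_fix' hK b α hα u hu ⟨b.hA.pos_le_group hu, h3⟩
  have hh1 : h ∈ twistedG2 K (3 ^ m) := by
    have : h = u⁻¹ * (u * h) := by group
    rw [this]
    exact mul_mem (inv_mem hu1) hg1
  exact ⟨u, hu, hu1, h, hh, hh1, rfl⟩

omit [Fintype K] [CharP K 3] in
theorem ree_Umin : Umin chevG2 K (b.hA.nword reeOm) = chevG2.posUnipotent K :=
  Umin_eq_pos b reeOm_lt (by decide +kernel)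

include hK hα in
theorem ree_cover {g : GL chevG2.Idx K} (hg1 : g ∈ twistedG2 K (3 ^ m)) :
    g ∈ chevG2.borelSubgroup K ∨ ∃ x ∈ chevG2.borelSubgroup K, x ∈ twistedG2 K (3 ^ m) ∧
      ∃ u ∈ chevG2.posUnipotent K, u ∈ twistedG2 K (3 ^ m) ∧ g = x * b.hA.nword reeOm * u := by
  have hS := sharpBN_of_mem K (D := chevG2) (by simp)
  have hF := ree_fixBN hK b α hα
  obtain ⟨n, hn, x, hx, hx1, y, hy, hy1, e⟩ := hF.cover hS hg1
  rcases ree_closure_n0 b hn with h | h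
  · left
    rw [e]
    exact mul_mem (mul_mem hx (hS.H_le_B h)) hy
  · right
    obtain ⟨x', hx', hx1', u, hu, hu1, e'⟩ := hF.key hS hg1 (b.hA.nword_mem_mono b.hR reeOm_lt)
      (ree_n0_mem b.hA m) ⟨x, hx, (b.hA.nword reeOm)⁻¹ * n * y, mul_mem (hS.H_le_B h) hy, by rw [e]; group⟩
    exact ⟨x', hx', hx1', u, hS.Um_le _ hu, hu1, e'⟩

include hK hα in
theorem card_reeB1 : Nat.card ↥(chevG2.borelSubgroup K ⊓ twistedG2 K (3 ^ m)) =
    (3 ^ (2 * m + 1)) ^ 3 * (3 ^ (2 * m + 1) - 1) := by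
  rw [← card_reeU1 hK b α hα, ← card_reeH1 hK b α hα, ← Nat.card_prod]
  symm
  let Ψ : ↥(chevG2.posUnipotent K ⊓ twistedG2 K (3 ^ m)) × ↥(chevG2.diagonalSubgroup K ⊓ twistedG2 K (3 ^ m)) →
      ↥(chevG2.borelSubgroup K ⊓ twistedG2 K (3 ^ m)) :=
    fun p => ⟨p.1 * p.2, (b.hA.mem_borel_iff b.hT).2 ⟨p.1, p.1.2.1, p.2, p.2.2.1, rfl⟩,
      mul_mem p.1.2.2 p.2.2.2⟩
  apply Nat.card_congr (Equiv.ofBijective Ψ ⟨?_, ?_⟩)
  · rintro ⟨u, h⟩ ⟨u', h'⟩ he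
    have he' : (u : GL chevG2.Idx K) * h = u' * h' := congrArg Subtype.val he
    have h1 : (u' : GL chevG2.Idx K)⁻¹ * u = h' * (h : GL chevG2.Idx K)⁻¹ := by
      calc (u' : GL chevG2.Idx K)⁻¹ * u = (u' : GL chevG2.Idx K)⁻¹ * (u * h) * (h : GL chevG2.Idx K)⁻¹ := by group
        _ = h' * (h : GL chevG2.Idx K)⁻¹ := by rw [he']; group
    have h2 : (u' : GL chevG2.Idx K)⁻¹ * u ∈ chevG2.posUnipotent K ⊓ chevG2.diagonalSubgroup K := by
      refine Subgroup.mem_inf.2 ⟨mul_mem (inv_mem u'.2.1) u.2.1, ?_⟩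
      rw [h1]
      exact mul_mem h'.2.1 (inv_mem h.2.1)
    rw [b.hTri.UH, Subgroup.mem_bot] at h2
    have h3 : (u : GL chevG2.Idx K) = u' := (inv_mul_eq_one.1 h2).symm
    have h4 : (h : GL chevG2.Idx K) = h' := by
      rw [h3] at he'
      exact mul_left_cancel he'
    exact Prod.ext (Subtype.ext h3) (Subtype.ext h4)
  · rintro ⟨g, hg, hg1⟩
    obtain ⟨u, hu, hu1, h, hh, hh1, rfl⟩ := ree_B1_split hK b α hα hg hg1
    exact ⟨(⟨u, hu, hu1⟩, ⟨h, hh, hh1⟩), rfl⟩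

include hK hα in
theorem card_ree : Nat.card ↥(twistedG2 K (3 ^ m)) =
    (3 ^ (2 * m + 1)) ^ 3 * (3 ^ (2 * m + 1) - 1) * ((3 ^ (2 * m + 1)) ^ 3 + 1) := by
  have hS := sharpBN_of_mem K (D := chevG2) (by simp)
  have hn0N := b.hA.nword_mem_mono (F := K) b.hR reeOm_lt
  have key : Nat.card ↥(twistedG2 K (3 ^ m)) = Nat.card (↥(chevG2.borelSubgroup K ⊓ twistedG2 K (3 ^ m)) ⊕
      ↥(chevG2.borelSubgroup K ⊓ twistedG2 K (3 ^ m)) × ↥(chevG2.posUnipotent K ⊓ twistedG2 K (3 ^ m))) := by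
    symm
    let Ψ : (↥(chevG2.borelSubgroup K ⊓ twistedG2 K (3 ^ m)) ⊕
      ↥(chevG2.borelSubgroup K ⊓ twistedG2 K (3 ^ m)) × ↥(chevG2.posUnipotent K ⊓ twistedG2 K (3 ^ m))) →
        ↥(twistedG2 K (3 ^ m)) := fun p => match p with
      | Sum.inl x => ⟨x, x.2.2⟩
      | Sum.inr (x, u) => ⟨x * b.hA.nword reeOm * u, mul_mem (mul_mem x.2.2 (ree_n0_mem b.hA m)) u.2.2⟩
    have hdis : ∀ (x x' : ↥(chevG2.borelSubgroup K ⊓ twistedG2 K (3 ^ m)))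
        (u : ↥(chevG2.posUnipotent K ⊓ twistedG2 K (3 ^ m))),
        (x : GL chevG2.Idx K) ≠ x' * b.hA.nword reeOm * u := by
      intro x x' u e
      apply ree_n0_not_borel b
      have : b.hA.nword reeOm = (x' : GL chevG2.Idx K)⁻¹ * (x' * b.hA.nword reeOm * u) * (u : GL chevG2.Idx K)⁻¹ := by
        group
      rw [this, ← e]
      exact mul_mem (mul_mem (inv_mem x'.2.1) x.2.1) (inv_mem (hS.U_le u.2.1))
    apply Nat.card_congr (Equiv.ofBijective Ψ ⟨?_, ?_⟩)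
    · rintro (x | ⟨x, u⟩) (x' | ⟨x', u'⟩) he
      · have : (x : GL chevG2.Idx K) = x' := congrArg (fun z : ↥(twistedG2 K (3 ^ m)) => (z : GL chevG2.Idx K)) he
        rw [Subtype.ext this]
      · exact absurd (congrArg Subtype.val he) (hdis x x' u')
      · exact absurd (congrArg Subtype.val he).symm (hdis x' x u)
      · have he' : (x : GL chevG2.Idx K) * b.hA.nword reeOm * u = x' * b.hA.nword reeOm * u' :=
          congrArg Subtype.val he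
        obtain ⟨h1, h2⟩ := (hS.uniq _ _ _ _ _ _ x.2.1 x'.2.1 hn0N hn0N (by rw [ree_Umin b]; exact u.2.1)
          (by rw [ree_Umin b]; exact u'.2.1) he').2 rfl
        rw [Subtype.ext h1, Subtype.ext h2]
    · rintro ⟨g, hg1⟩
      rcases ree_cover hK b α hα hg1 with h | ⟨x, hx, hx1, u, hu, hu1, e⟩
      · exact ⟨Sum.inl ⟨g, h, hg1⟩, rfl⟩
      · exact ⟨Sum.inr (⟨x, hx, hx1⟩, ⟨u, hu, hu1⟩), Subtype.ext e.symm⟩
  rw [key, Nat.card_sum, Nat.card_prod, card_reeB1 hK b α hα, card_reeU1 hK b α hα]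
  ring

end sigma

end Cfsg.Agent.Lib.Helper22
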