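import Cfsg.Agent.Lib.Helper22.Ree11

set_option autoImplicit false
set_option maxRecDepth 100000

namespace Cfsg.Agent.Lib.Helper22
open Cfsg.Lie Matrix Cfsg.Agent.Lib.Helper23 Cfsg.Agent.Lib.Helper45

section basic
variable {K : Type*} [Field K] (hA : AddFact chevG2 K)

theorem hh_conj_W {x y : K} (hx : x ≠ 0) (hy : y ≠ 0) (w : List (ℕ × K)) (hw : ∀ p ∈ w, p.1 < 12) :
    hh hA x y * hA.W w * (hh hA x y)⁻¹ = hA.W (w.map fun p => (p.1, hhChi x y p.1 * p.2)) := by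
  induction w with
  | nil => simp [AddFact.W]
  | cons p w ih =>
    have e : hA.W (p :: w) = hA.X p.1 p.2 * hA.W w := by simp [AddFact.W]
    rw [e, List.map_cons]
    have e2 : hA.W ((p.1, hhChi x y p.1 * p.2) :: w.map fun p => (p.1, hhChi x y p.1 * p.2)) =
        hA.X p.1 (hhChi x y p.1 * p.2) * hA.W (w.map fun p => (p.1, hhChi x y p.1 * p.2)) := by
      simp [AddFact.W]
    rw [e2, ← ih (fun q hq => hw q (List.mem_cons_of_mem _ hq)), ← hh_conj hA hx hy (hw p List.mem_cons_self)]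
    group

theorem hhChi_6 (x y : K) : hhChi x y 6 = x ^ (-3 : ℤ) * y ^ (2 : ℤ) := rfl
theorem hhChi_10 (x y : K) : hhChi x y 10 = x ^ (3 : ℤ) * y ^ (-1 : ℤ) := rfl
theorem hhChi_11 (x y : K) : hhChi x y 11 = y := by
  show x ^ (0 : ℤ) * y ^ (1 : ℤ) = y
  simp

end basic

section sigma
variable {K : Type*} [Field K] [CharP K 3] [Fintype K] {m : ℕ} (hK : Fintype.card K = 3 ^ (2 * m + 1))
  (b : Bundle chevG2 K) (α : ↥(chevG2.group K) ≃* ↥(chevG2.group K))
  (hα : ∀ r < 12, ∀ t : K,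
    (α ⟨b.hA.X r t, b.hA.X_mem_group r t⟩ : GL chevG2.Idx K) = b.hA.X (isoRhoG2 r) (t ^ isoLamG2 r))

include hK hα in
/-- the action of `H¹` on `U¹`. -/
theorem reeH_conj_reeU {y : K} (hy : y ≠ 0) (t u v : K) :
    reeH b.hA m y * reeU b.hA m t u v * (reeH b.hA m y)⁻¹ =
      reeU b.hA m (hhChi (reeTh K m y) y 6 * t) (hhChi (reeTh K m y) y 10 * u) (y * v) := by
  have hx : reeTh K m y ≠ 0 := (map_ne_zero _).2 hy
  have h1 : reeH b.hA m y * reeU b.hA m t u v * (reeH b.hA m y)⁻¹ =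
      b.hA.W ((reeW 7 6 8 9 10 11 1 (reeTh K m) t u v).map fun p => (p.1, hhChi (reeTh K m y) y p.1 * p.2)) := by
    unfold reeH reeU
    apply hh_conj_W b.hA hx hy
    intro p hp
    simp only [reeW, List.mem_cons, List.not_mem_nil, or_false] at hp
    rcases hp with rfl | rfl | rfl | rfl | rfl | rfl <;> simp
  have h2 : reeH b.hA m y * reeU b.hA m t u v * (reeH b.hA m y)⁻¹ ∈
      chevG2.posUnipotent K ⊓ twistedG2 K (3 ^ m) := by
    refine ⟨?_, Subgroup.mul_mem _ (Subgroup.mul_mem _ (reeH_mem hK b.hA hy) (reeU_mem b.hA m t u v)) (Subgroup.inv_mem _ (reeH_mem hK b.hA hy))⟩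
    rw [h1]
    apply W_mem_pos'
    intro p hp
    simp only [reeW, List.map_cons, List.map_nil, List.mem_cons, List.not_mem_nil, or_false] at hp
    have hd : ∀ r ∈ [7, 6, 8, 9, 10, 11], chevG2.IsPosRoot r := by decide +kernel
    rcases hp with rfl | rfl | rfl | rfl | rfl | rfl <;> exact hd _ (by simp)
  obtain ⟨t', u', v', e⟩ := (mem_reeU1_iff hK b α hα _).1 h2
  rw [e]
  rw [h1] at e
  unfold reeU reeW at e
  simp only [List.map_cons, List.map_nil] at e
  obtain ⟨-, e2, -, -, e5, e6⟩ := g2_unique6 b.hA e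
  simp only [one_mul, hhChi_11] at e2 e5 e6
  rw [e2, e5, e6]

end sigma

end Cfsg.Agent.Lib.Helper22
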