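import Cfsg.Agent.Lib.Helper22.Ree12

set_option autoImplicit false
set_option maxRecDepth 100000

namespace Cfsg.Agent.Lib.Helper22
open Cfsg.Lie Matrix Cfsg.Agent.Lib.Helper23 Cfsg.Agent.Lib.Helper45

section sigma
variable {K : Type*} [Field K] [CharP K 3] [Fintype K] {m : ℕ} (hK : Fintype.card K = 3 ^ (2 * m + 1))
  (b : Bundle chevG2 K) (α : ↥(chevG2.group K) ≃* ↥(chevG2.group K))
  (hα : ∀ r < 12, ∀ t : K,
    (α ⟨b.hA.X r t, b.hA.X_mem_group r t⟩ : GL chevG2.Idx K) = b.hA.X (isoRhoG2 r) (t ^ isoLamG2 r))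

include hK hα in
/-- `B¹ ∩ n₀⁻¹ B¹ n₀ = H¹`. -/
theorem ree_core_aux {x : GL chevG2.Idx K} (hx1 : x ∈ twistedG2 K (3 ^ m)) (hx : x ∈ chevG2.borelSubgroup K)
    (hn : b.hA.nword reeOm * x * (b.hA.nword reeOm)⁻¹ ∈ chevG2.borelSubgroup K) :
    x ∈ chevG2.diagonalSubgroup K := by
  have hS := sharpBN_of_mem K (D := chevG2) (by simp)
  obtain ⟨u, hu, hu1, h, hh, hh1, rfl⟩ := ree_B1_split hK b α hα hx hx1
  obtain ⟨t, u', v, rfl⟩ := (mem_reeU1_iff hK b α hα _).1 ⟨hu, hu1⟩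
  set n0 := b.hA.nword reeOm with hn0
  have h1 : n0 * reeU b.hA m t u' v * n0⁻¹ ∈ chevG2.negUnipotent K := ree_conj_pos b rfl
  have h2 : n0 * reeU b.hA m t u' v * n0⁻¹ ∈ chevG2.borelSubgroup K := by
    have e : n0 * reeU b.hA m t u' v * n0⁻¹ = (n0 * (reeU b.hA m t u' v * h) * n0⁻¹) * (n0 * h * n0⁻¹)⁻¹ := by
      group
    rw [e]
    exact mul_mem hn (inv_mem (hS.H_le_B (hS.H_norm _ (b.hA.nword_mem_mono b.hR reeOm_lt) _ hh)))
  have h3 : n0 * reeU b.hA m t u' v * n0⁻¹ ∈ chevG2.borelSubgroup K ⊓ chevG2.negUnipotent K := ⟨h2, h1⟩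
  rw [b.hTri.BV, Subgroup.mem_bot] at h3
  have h4 : reeU b.hA m t u' v = 1 := by
    have : reeU b.hA m t u' v = n0⁻¹ * (n0 * reeU b.hA m t u' v * n0⁻¹) * n0 := by group
    rw [this, h3]; group
  rw [h4, one_mul]
  exact hh

include hK hα in
theorem ree_core {x : GL chevG2.Idx K} (hx1 : x ∈ twistedG2 K (3 ^ m))
    (hall : ∀ g ∈ twistedG2 K (3 ^ m), g * x * g⁻¹ ∈ chevG2.borelSubgroup K) : x = 1 := by
  have hH : ∀ g ∈ twistedG2 K (3 ^ m), g * x * g⁻¹ ∈ chevG2.diagonalSubgroup K := by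
    intro g hg
    refine ree_core_aux hK b α hα (mul_mem (mul_mem hg hx1) (inv_mem hg)) (hall g hg) ?_
    have := hall (b.hA.nword reeOm * g) (mul_mem (ree_n0_mem b.hA m) hg)
    have e : b.hA.nword reeOm * g * x * (b.hA.nword reeOm * g)⁻¹ =
        b.hA.nword reeOm * (g * x * g⁻¹) * (b.hA.nword reeOm)⁻¹ := by group
    rwa [e] at this
  have hxH : x ∈ chevG2.diagonalSubgroup K := by simpa using hH 1 (one_mem _)
  obtain ⟨y, hy, rfl⟩ := (mem_reeH1_iff hK b α hα _).1 ⟨hxH, hx1⟩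
  have h1 := reeH_conj_reeU hK b α hα hy 0 0 1
  rw [mul_zero, mul_zero, mul_one] at h1
  have h2 := hH _ (reeU_mem' b.hA m 0 0 1)
  have h3 : reeU b.hA m 0 0 y * (reeU b.hA m 0 0 1)⁻¹ ∈ chevG2.posUnipotent K ⊓ chevG2.diagonalSubgroup K := by
    refine ⟨Subgroup.mul_mem _ (reeU_mem_pos b.hA _ _ _ _) (Subgroup.inv_mem _ (reeU_mem_pos b.hA _ _ _ _)), ?_⟩
    rw [← h1]
    have e : reeH b.hA m y * reeU b.hA m 0 0 1 * (reeH b.hA m y)⁻¹ * (reeU b.hA m 0 0 1)⁻¹ =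
        reeH b.hA m y * (reeU b.hA m 0 0 1 * reeH b.hA m y * (reeU b.hA m 0 0 1)⁻¹)⁻¹ := by group
    rw [e]
    exact Subgroup.mul_mem _ hxH (Subgroup.inv_mem _ h2)
  rw [b.hTri.UH, Subgroup.mem_bot, mul_inv_eq_one] at h3
  obtain ⟨-, -, rfl⟩ := reeU_inj b h3
  exact map_one (reeHhom b.hA m)

include hK hα in
theorem ree_normalCore : ((chevG2.borelSubgroup K ⊓ twistedG2 K (3 ^ m)).subgroupOf
    (twistedG2 K (3 ^ m))).normalCore = ⊥ := by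
  rw [eq_bot_iff]
  rintro ⟨x, hx1⟩ hx
  rw [Subgroup.mem_bot]
  apply Subtype.ext
  refine ree_core hK b α hα hx1 fun g hg => ?_
  have := hx ⟨g, hg⟩
  rw [Subgroup.mem_subgroupOf] at this
  exact this.1

end sigma

end Cfsg.Agent.Lib.Helper22
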