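import Cfsg.Agent.Lib.Helper22.Ree13

set_option autoImplicit false
set_option maxRecDepth 100000

namespace Cfsg.Agent.Lib.Helper22
open Cfsg.Lie Matrix Cfsg.Agent.Lib.Helper23 Cfsg.Agent.Lib.Helper45

theorem ree_not_three_dvd (m : ℕ) : ¬ 3 ∣ (3 ^ (2 * m + 1) - 1) * ((3 ^ (2 * m + 1)) ^ 3 + 1) := by
  intro h
  obtain ⟨k, hk⟩ : ∃ k, 3 ^ (2 * m + 1) = 3 * k := ⟨3 ^ (2 * m), by ring⟩
  have hk0 : 0 < k := by
    rcases Nat.eq_zero_or_pos k with rfl | h0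
    · have : 0 < 3 ^ (2 * m + 1) := by positivity
      omega
    · exact h0
  rw [hk] at h
  rcases (Nat.Prime.dvd_mul Nat.prime_three).1 h with h | h
  · omega
  · have : (3 * k) ^ 3 = 3 * (9 * k ^ 3) := by ring
    omega

section sigma
variable {K : Type*} [Field K] [CharP K 3] [Fintype K] {m : ℕ} (hK : Fintype.card K = 3 ^ (2 * m + 1))
  (b : Bundle chevG2 K) (α : ↥(chevG2.group K) ≃* ↥(chevG2.group K))
  (hα : ∀ r < 12, ∀ t : K,
    (α ⟨b.hA.X r t, b.hA.X_mem_group r t⟩ : GL chevG2.Idx K) = b.hA.X (isoRhoG2 r) (t ^ isoLamG2 r))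

include hK hα in
/-- `U¹ ∩ k U¹ k⁻¹ = 1` unless `k ∈ B¹`. -/
theorem ree_TI {k : GL chevG2.Idx K} (hk1 : k ∈ twistedG2 K (3 ^ m)) :
    k ∈ chevG2.borelSubgroup K ∨ ∀ y ∈ chevG2.posUnipotent K, y ∈ twistedG2 K (3 ^ m) →
      k * y * k⁻¹ ∈ chevG2.posUnipotent K → y = 1 := by
  have hS := sharpBN_of_mem K (D := chevG2) (by simp)
  rcases ree_cover hK b α hα hk1 with h | ⟨x, hx, hx1, u, hu, hu1, rfl⟩
  · exact Or.inl h
  · right
    intro y hy hy1 hc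
    obtain ⟨t, u', v, e⟩ := (mem_reeU1_iff hK b α hα (u * y * u⁻¹)).1
      ⟨Subgroup.mul_mem _ (Subgroup.mul_mem _ hu hy) (Subgroup.inv_mem _ hu), Subgroup.mul_mem _ (Subgroup.mul_mem _ hu1 hy1) (Subgroup.inv_mem _ hu1)⟩
    set n0 := b.hA.nword reeOm with hn0
    have h1 : n0 * reeU b.hA m t u' v * n0⁻¹ ∈ chevG2.negUnipotent K := ree_conj_pos b rfl
    have h2 : n0 * reeU b.hA m t u' v * n0⁻¹ ∈ chevG2.borelSubgroup K := by
      have e2 : n0 * reeU b.hA m t u' v * n0⁻¹ = x⁻¹ * (x * n0 * u * y * (x * n0 * u)⁻¹) * x := by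
        rw [← e]; group
      rw [e2]
      exact mul_mem (mul_mem (inv_mem hx) (hS.U_le hc)) hx
    have h3 : n0 * reeU b.hA m t u' v * n0⁻¹ ∈ chevG2.borelSubgroup K ⊓ chevG2.negUnipotent K := ⟨h2, h1⟩
    rw [b.hTri.BV, Subgroup.mem_bot] at h3
    have h4 : reeU b.hA m t u' v = 1 := by
      have : reeU b.hA m t u' v = n0⁻¹ * (n0 * reeU b.hA m t u' v * n0⁻¹) * n0 := by group
      rw [this, h3]; group
    rw [h4] at e
    have : y = u⁻¹ * (u * y * u⁻¹) * u := by group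
    rw [this, e]; group

variable (K m) in
/-- `U¹` as a subgroup of `G¹`. -/
noncomputable def reeU1 : Subgroup ↥(twistedG2 K (3 ^ m)) :=
  (chevG2.posUnipotent K ⊓ twistedG2 K (3 ^ m)).subgroupOf (twistedG2 K (3 ^ m))

omit [Fintype K] [CharP K 3] in
theorem mem_reeU1 {g : ↥(twistedG2 K (3 ^ m))} : g ∈ reeU1 K m ↔ (g : GL chevG2.Idx K) ∈ chevG2.posUnipotent K := by
  unfold reeU1
  rw [Subgroup.mem_subgroupOf, Subgroup.mem_inf]
  exact ⟨fun h => h.1, fun h => ⟨h, g.2⟩⟩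

include hK hα in
theorem card_reeU1' : Nat.card ↥(reeU1 K m) = 3 ^ (3 * (2 * m + 1)) := by
  unfold reeU1
  rw [Nat.card_congr (Subgroup.subgroupOfEquivOfLe (inf_le_right :
    chevG2.posUnipotent K ⊓ twistedG2 K (3 ^ m) ≤ twistedG2 K (3 ^ m))).toEquiv, card_reeU1 hK b α hα, ← pow_mul]
  congr 1
  ring

include hK hα in
theorem reeU1_index : ¬ 3 ∣ (reeU1 K m).index := by
  have h1 := (reeU1 K m).card_mul_index
  rw [card_reeU1' hK b α hα, card_ree hK b α hα, mul_assoc] at h1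
  have e : (3 ^ (2 * m + 1)) ^ 3 = 3 ^ (3 * (2 * m + 1)) := by rw [← pow_mul]; congr 1; ring
  rw [e] at h1
  have h2 := Nat.eq_of_mul_eq_mul_left (by positivity) h1
  rw [h2, ← e]
  exact ree_not_three_dvd m

include hK hα in
theorem ree_sylow_TI (P Q : Sylow 3 ↥(twistedG2 K (3 ^ m))) (hPQ : P ≠ Q) :
    (P : Subgroup ↥(twistedG2 K (3 ^ m))) ⊓ (Q : Subgroup ↥(twistedG2 K (3 ^ m))) = ⊥ := by
  have : Fact (Nat.Prime 3) := ⟨Nat.prime_three⟩
  have : Finite ↥(twistedG2 K (3 ^ m)) := inferInstance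
  let S0 : Sylow 3 ↥(twistedG2 K (3 ^ m)) :=
    (IsPGroup.of_card (card_reeU1' hK b α hα)).toSylow (reeU1_index hK b α hα)
  have hS0 : ∀ g, g ∈ S0 ↔ (g : GL chevG2.Idx K) ∈ chevG2.posUnipotent K := by
    intro g
    rw [IsPGroup.mem_toSylow, mem_reeU1]
  obtain ⟨g, rfl⟩ := MulAction.exists_smul_eq ↥(twistedG2 K (3 ^ m)) S0 P
  obtain ⟨g', rfl⟩ := MulAction.exists_smul_eq ↥(twistedG2 K (3 ^ m)) S0 Q
  rw [eq_bot_iff]
  intro x hx
  rw [Subgroup.mem_inf, Sylow.coe_subgroup_smul, Sylow.coe_subgroup_smul,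
    Subgroup.mem_pointwise_smul_iff_inv_smul_mem, Subgroup.mem_pointwise_smul_iff_inv_smul_mem] at hx
  simp only [MulAut.smul_def, MulAut.conj_inv_apply] at hx
  obtain ⟨hx1, hx2⟩ := hx
  have hx1' := (hS0 _).1 hx1
  have hx2' := (hS0 _).1 hx2
  rw [Subgroup.mem_bot]
  rcases ree_TI hK b α hα (g⁻¹ * g').2 with h | h
  · exfalso
    apply hPQ
    have hn : (g⁻¹ * g') • S0 = S0 := by
      rw [Sylow.smul_eq_iff_mem_normalizer, Subgroup.mem_set_normalizer_iff]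
      intro z
      have := Subgroup.mem_normalizer_iff.1 (b.hA.borel_le_normalizer_pos b.hT h) (z : GL chevG2.Idx K)
      exact ((hS0 z).trans this).trans (hS0 (g⁻¹ * g' * z * (g⁻¹ * g')⁻¹)).symm
    rw [mul_smul] at hn
    conv_lhs => rw [← hn]
    rw [smul_smul, mul_inv_cancel, one_smul]
  · have h1 := h _ hx2' (g'⁻¹ * x * g').2 (by
      have e : ((g⁻¹ * g' : ↥(twistedG2 K (3 ^ m))) : GL chevG2.Idx K) * ((g'⁻¹ * x * g' : ↥(twistedG2 K (3 ^ m))) : GL chevG2.Idx K) *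
          ((g⁻¹ * g' : ↥(twistedG2 K (3 ^ m))) : GL chevG2.Idx K)⁻¹ = ((g⁻¹ * x * g : ↥(twistedG2 K (3 ^ m))) : GL chevG2.Idx K) := by
        simp only [Subgroup.coe_mul, InvMemClass.coe_inv]
        group
      rw [e]
      exact hx1')
    have h2 : g'⁻¹ * x * g' = 1 := Subtype.ext h1
    have : x = g' * (g'⁻¹ * x * g') * g'⁻¹ := by group
    rw [this, h2]; group

end sigma

end Cfsg.Agent.Lib.Helper22
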