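import Cfsg.Agent.Lib.Helper22.Ree14
import Cfsg.Agent.Lib.Helper23.TwPerf
import Cfsg.Agent.Lib.Helper23.TwField
import Cfsg.Agent.Lib.Helper23.TwSimple

set_option autoImplicit false
set_option maxRecDepth 100000

namespace Cfsg.Agent.Lib.Helper22
open Cfsg.Lie Matrix Cfsg.Agent.Lib.Helper23 Cfsg.Agent.Lib.Helper45
open scoped commutatorElement

section sigma
variable {K : Type*} [Field K] [CharP K 3] [Fintype K] {m : ℕ} (hK : Fintype.card K = 3 ^ (2 * m + 1))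
  (b : Bundle chevG2 K) (α : ↥(chevG2.group K) ≃* ↥(chevG2.group K))
  (hα : ∀ r < 12, ∀ t : K,
    (α ⟨b.hA.X r t, b.hA.X_mem_group r t⟩ : GL chevG2.Idx K) = b.hA.X (isoRhoG2 r) (t ^ isoLamG2 r))

include hK in
theorem ree_chi10 {y : K} (hy : y ≠ 0) (h : hhChi (reeTh K m y) y 10 = 1) : y ^ 2 = 1 := by
  have hx : reeTh K m y ≠ 0 := (map_ne_zero _).2 hy
  rw [hhChi_10] at h
  have h1 : reeTh K m y ^ 3 = y := by
    have : reeTh K m y ^ (3 : ℤ) * y ^ (-1 : ℤ) * y = y := by rw [h, one_mul]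
    rw [_root_.zpow_neg_one, inv_mul_cancel_right₀ hy] at this
    exact_mod_cast this
  have h2 : reeTh K m (reeTh K m y) ^ 3 = reeTh K m y := by rw [← map_pow, h1]
  rw [← reePs_apply, reePs_reeTh hK] at h2
  rw [← h2] at h1
  have h3 : y * (y ^ 2 - 1) = 0 := by linear_combination h1
  rcases mul_eq_zero.1 h3 with h4 | h4
  · exact absurd h4 hy
  · linear_combination h4

include hK in
theorem ree_chi6 {y : K} (hy : y ≠ 0) (h : hhChi (reeTh K m y) y 6 = 1) : y = 1 := by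
  have hx : reeTh K m y ≠ 0 := (map_ne_zero _).2 hy
  rw [hhChi_6] at h
  have h1 : reeTh K m y ^ 3 = y ^ 2 := by
    have : reeTh K m y ^ 3 * (reeTh K m y ^ (-3 : ℤ) * y ^ (2 : ℤ)) = reeTh K m y ^ 3 := by rw [h, mul_one]
    rw [← mul_assoc, _root_.zpow_neg] at this
    have e : reeTh K m y ^ 3 * (reeTh K m y ^ (3 : ℤ))⁻¹ = 1 := by
      have : reeTh K m y ^ (3 : ℤ) = reeTh K m y ^ 3 := by norm_cast
      rw [this]
      exact mul_inv_cancel₀ (pow_ne_zero _ hx)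
    rw [e, one_mul] at this
    exact_mod_cast this.symm
  have h2 : reeTh K m (reeTh K m y) ^ 3 = reeTh K m y ^ 2 := by rw [← map_pow, h1, map_pow]
  rw [← reePs_apply, reePs_reeTh hK] at h2
  -- `y = x²`, `x³ = y² = x⁴`
  have h3 : reeTh K m y ^ 3 * (reeTh K m y - 1) = 0 := by
    have h5 : reeTh K m y ^ 3 = (reeTh K m y ^ 2) ^ 2 := by rw [← h2]; exact h1
    linear_combination -h5
  rcases mul_eq_zero.1 h3 with h4 | h4
  · exact absurd h4 (pow_ne_zero _ hx)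
  · rw [h2, sub_eq_zero.1 h4, one_pow]

include hK hα in
/-- elements `h(y)`, `y² ≠ 1`, of `H¹` act fixed-point-freely on `U¹`. -/
theorem ree_cent_trivial {y : K} (hy : y ≠ 0) (hy2 : y ^ 2 ≠ 1) {g : GL chevG2.Idx K}
    (hg : g ∈ chevG2.posUnipotent K ⊓ twistedG2 K (3 ^ m)) (hc : reeH b.hA m y * g = g * reeH b.hA m y) :
    g = 1 := by
  obtain ⟨t, u, v, rfl⟩ := (mem_reeU1_iff hK b α hα _).1 hg
  have h1 := reeH_conj_reeU hK b α hα hy t u v
  rw [hc, mul_inv_cancel_right] at h1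
  obtain ⟨e1, e2, e3⟩ := reeU_inj b h1
  have ht : t = 0 := by
    by_contra h0
    have : hhChi (reeTh K m y) y 6 = 1 := by
      apply mul_right_cancel₀ h0
      rw [one_mul, ← e1]
    apply hy2
    rw [ree_chi6 hK hy this, one_pow]
  have hu : u = 0 := by
    by_contra h0
    have : hhChi (reeTh K m y) y 10 = 1 := by
      apply mul_right_cancel₀ h0
      rw [one_mul, ← e2]
    exact hy2 (ree_chi10 hK hy this)
  have hv : v = 0 := by
    by_contra h0
    have : y = 1 := by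
      apply mul_right_cancel₀ h0
      rw [one_mul, ← e3]
    apply hy2
    rw [this, one_pow]
  subst ht hu hv
  simp [reeU, reeW, AddFact.W]

include hK hα in
theorem ree_U_le_comm (hm : 1 ≤ m) {g : GL chevG2.Idx K}
    (hg : g ∈ chevG2.posUnipotent K ⊓ twistedG2 K (3 ^ m)) : g ∈ ⁅twistedG2 K (3 ^ m), twistedG2 K (3 ^ m)⁆ := by
  have hlt : 2 < Fintype.card K - 1 := by
    rw [hK]
    have : 3 ^ (2 * 1 + 1) ≤ 3 ^ (2 * m + 1) := Nat.pow_le_pow_right (by norm_num) (by omega)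
    norm_num at this
    omega
  obtain ⟨y, hy, hy2⟩ := exists_pow_ne_one (K := K) (m := 2) (by omega) hlt
  have hH := reeH_mem hK b.hA hy
  have hHd := reeH_mem_diag (m := m) b.hA hy
  have hnorm : ∀ u ∈ chevG2.posUnipotent K ⊓ twistedG2 K (3 ^ m),
      reeH b.hA m y * u * (reeH b.hA m y)⁻¹ * u⁻¹ ∈ chevG2.posUnipotent K ⊓ twistedG2 K (3 ^ m) := by
    intro u hu
    refine mul_mem ⟨?_, Subgroup.mul_mem _ (Subgroup.mul_mem _ hH hu.2) (Subgroup.inv_mem _ hH)⟩ (inv_mem hu)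
    exact (Subgroup.mem_normalizer_iff.1 (b.hA.diag_le_normalizer_pos b.hT hHd) u).1 hu.1
  let f : ↥(chevG2.posUnipotent K ⊓ twistedG2 K (3 ^ m)) → ↥(chevG2.posUnipotent K ⊓ twistedG2 K (3 ^ m)) :=
    fun u => ⟨reeH b.hA m y * u * (reeH b.hA m y)⁻¹ * (u : GL chevG2.Idx K)⁻¹, hnorm u u.2⟩
  have hinj : Function.Injective f := by
    intro u u' h
    have h' : reeH b.hA m y * u * (reeH b.hA m y)⁻¹ * (u : GL chevG2.Idx K)⁻¹ =
        reeH b.hA m y * u' * (reeH b.hA m y)⁻¹ * (u' : GL chevG2.Idx K)⁻¹ := congrArg Subtype.val h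
    have h1 : (u' : GL chevG2.Idx K)⁻¹ * u = 1 := by
      apply ree_cent_trivial hK b α hα hy hy2 (mul_mem (inv_mem u'.2) u.2)
      have e1 : reeH b.hA m y * ((u' : GL chevG2.Idx K)⁻¹ * u) =
          reeH b.hA m y * (u' : GL chevG2.Idx K)⁻¹ * (reeH b.hA m y)⁻¹ *
            (reeH b.hA m y * u * (reeH b.hA m y)⁻¹ * (u : GL chevG2.Idx K)⁻¹) * u * reeH b.hA m y := by group
      rw [e1, h']
      group
    exact Subtype.ext (inv_mul_eq_one.1 h1).symm
  have : Finite ↥(chevG2.posUnipotent K ⊓ twistedG2 K (3 ^ m)) := inferInstance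
  obtain ⟨u, hu⟩ := (Finite.injective_iff_surjective.1 hinj) ⟨g, hg⟩
  have hu' : reeH b.hA m y * u * (reeH b.hA m y)⁻¹ * (u : GL chevG2.Idx K)⁻¹ = g := congrArg Subtype.val hu
  rw [← hu', ← commutatorElement_def]
  exact Subgroup.commutator_mem_commutator hH u.2.2

include hK hα in
theorem ree_perfect (hm : 1 ≤ m) : commutator ↥(twistedG2 K (3 ^ m)) = ⊤ := by
  apply subgroup_commutator_eq_top
  conv_lhs => rw [twistedG2_eq b.hA]
  rw [Subgroup.closure_le]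
  rintro g (⟨t, u, v, rfl⟩ | ⟨t, u, v, rfl⟩)
  · exact ree_U_le_comm hK b α hα hm ⟨reeU_mem_pos b.hA _ t u v, reeU_mem b.hA m t u v⟩
  · set y := b.hA.W (reeW 4 5 3 2 1 0 (-1) (reeTh K m) t u v) with hy
    set n0 := b.hA.nword reeOm with hn0
    have hz : n0⁻¹ * y * n0 ∈ chevG2.posUnipotent K := ree_conj_neg b rfl
    have hn1 : n0 ∈ twistedG2 K (3 ^ m) := ree_n0_mem b.hA m
    have hz1 : n0⁻¹ * y * n0 ∈ twistedG2 K (3 ^ m) := mul_mem (mul_mem (inv_mem hn1) (reeV_mem b.hA m t u v)) hn1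
    have e : y = n0 * (n0⁻¹ * y * n0) * n0⁻¹ := by group
    rw [SetLike.mem_coe, e]
    exact subgroup_conj_mem_comm hn1 (ree_U_le_comm hK b α hα hm ⟨hz, hz1⟩)

end sigma

end Cfsg.Agent.Lib.Helper22

namespace Cfsg.Agent.Lib.Helper22
open Cfsg.Lie Matrix Cfsg.Agent.Lib.Helper23 Cfsg.Agent.Lib.Helper45

section sigma2
variable {K : Type*} [Field K] [CharP K 3] [Fintype K] {m : ℕ} (hK : Fintype.card K = 3 ^ (2 * m + 1))
  (b : Bundle chevG2 K) (α : ↥(chevG2.group K) ≃* ↥(chevG2.group K))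
  (hα : ∀ r < 12, ∀ t : K,
    (α ⟨b.hA.X r t, b.hA.X_mem_group r t⟩ : GL chevG2.Idx K) = b.hA.X (isoRhoG2 r) (t ^ isoLamG2 r))

include hK hα in
theorem ree_simple (hm : 1 ≤ m) :
    IsSimpleGroup ↥(twistedG2 K (3 ^ m)) ∧ ¬ IsMulCommutative ↥(twistedG2 K (3 ^ m)) := by
  have hU : Group.IsNilpotent (chevG2.posUnipotent K) := b.hA.pos_isNilpotent b.hG
  have hnt : Nontrivial ↥(twistedG2 K (3 ^ m)) := by
    refine ⟨⟨⟨_, reeU_mem' b.hA m 0 0 1⟩, 1, ?_⟩⟩
    intro h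
    have h1 : reeU b.hA m 0 0 1 = 1 := congrArg Subtype.val h
    exact one_ne_zero (reeU_ne_one b _ h1).2.2
  refine b.hA.tw_isSimpleGroup_of b.hR b.hN b.hT b.hTri (O := [reeOm]) (par := [0]) (dep := [0]) ?_ ?_ ?_ ?_
    inferInstance (ree_perfect hK b α hα hm) (ree_normalCore hK b α hα) hnt
  · intro J hJ
    rw [List.mem_singleton] at hJ
    subst hJ
    exact reeOm_lt
  · intro J hJ
    rw [List.mem_singleton] at hJ
    subst hJ
    exact ree_n0_mem b.hA m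
  · obtain ⟨P, h1, -, h3⟩ := ree_bnPair hK b α hα
    refine ⟨P, h1, ?_⟩
    rw [h3]
    ext s
    simp
  · intro j hj h0
    simp only [List.length_singleton] at hj
    omega

end sigma2

end Cfsg.Agent.Lib.Helper22
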