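import Cfsg.Agent.Lib.Helper22.Ree15

set_option autoImplicit false
set_option maxRecDepth 100000

namespace Cfsg.Agent.Lib.Helper22
open Cfsg.Lie Matrix Cfsg.Agent.Lib.Helper23 Cfsg.Agent.Lib.Helper45

/-- a cyclic group of order `2k`, `k` odd, has `k` elements of odd order. -/
theorem card_odd_order {C : Type*} [CommGroup C] [IsCyclic C] [Finite C] {k : ℕ} (hk : Odd k)
    (hC : Nat.card C = 2 * k) : Nat.card {x : C // Odd (orderOf x)} = k := by
  have h1 := IsCyclic.card_powMonoidHom_ker (G := C) k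
  rw [hC, Nat.gcd_mul_left_left] at h1
  rw [← h1]
  apply Nat.card_congr
  refine Equiv.subtypeEquivRight fun x => ?_
  rw [MonoidHom.mem_ker, powMonoidHom_apply]
  constructor
  · intro hx
    apply orderOf_dvd_iff_pow_eq_one.1
    have h2 : orderOf x ∣ 2 * k := hC ▸ orderOf_dvd_natCard x
    exact (Nat.Coprime.dvd_of_dvd_mul_left (Nat.Coprime.symm (Nat.coprime_two_left.2 hx)) h2)
  · intro hx
    exact Odd.of_dvd_nat hk (orderOf_dvd_of_pow_eq_one hx)

section sigma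
variable {K : Type*} [Field K] [CharP K 3] [Fintype K] {m : ℕ} (hK : Fintype.card K = 3 ^ (2 * m + 1))
  (b : Bundle chevG2 K) (α : ↥(chevG2.group K) ≃* ↥(chevG2.group K))
  (hα : ∀ r < 12, ∀ t : K,
    (α ⟨b.hA.X r t, b.hA.X_mem_group r t⟩ : GL chevG2.Idx K) = b.hA.X (isoRhoG2 r) (t ^ isoLamG2 r))

include hK hα in
theorem ree_card_odd : 2 * Nat.card {h : ↥(chevG2.diagonalSubgroup K ⊓ twistedG2 K (3 ^ m)) // Odd (orderOf h)} =
    3 ^ (2 * m + 1) - 1 := by
  classical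
  let e : Kˣ ≃* ↥(chevG2.diagonalSubgroup K ⊓ twistedG2 K (3 ^ m)) :=
    (MonoidHom.ofInjective (reeHhom_inj (m := m) b.hA)).trans (MulEquiv.subgroupCongr (reeHhom_range hK b α hα))
  have h1 : Nat.card {h : ↥(chevG2.diagonalSubgroup K ⊓ twistedG2 K (3 ^ m)) // Odd (orderOf h)} =
      Nat.card {y : Kˣ // Odd (orderOf y)} := by
    symm
    apply Nat.card_congr
    exact Equiv.subtypeEquiv e.toEquiv fun y => by
      show _ ↔ Odd (orderOf (e y))
      rw [MulEquiv.orderOf_eq]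
  have h4 := three_pow_mod_four m
  obtain ⟨j, hj⟩ : ∃ j, 3 ^ (2 * m + 1) = 4 * j + 3 := ⟨3 ^ (2 * m + 1) / 4, by omega⟩
  have h2 : Nat.card Kˣ = 2 * (2 * j + 1) := by
    rw [Nat.card_eq_fintype_card, Fintype.card_units, hK, hj]
    omega
  rw [h1, card_odd_order ⟨j, rfl⟩ h2, hj]
  omega

include hK hα in
theorem ree_odd_cent {h : GL chevG2.Idx K} (hh : h ∈ chevG2.diagonalSubgroup K ⊓ twistedG2 K (3 ^ m))
    (h1 : h ≠ 1) (ho : Odd (orderOf h)) :
    (chevG2.posUnipotent K ⊓ twistedG2 K (3 ^ m)) ⊓ Subgroup.centralizer {h} = ⊥ := by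
  obtain ⟨y, hy, rfl⟩ := (mem_reeH1_iff hK b α hα _).1 hh
  have hy2 : y ^ 2 ≠ 1 := by
    intro h2
    apply h1
    have h3 : reeH b.hA m y ^ 2 = 1 := by
      rw [pow_two, reeH_mul b.hA hy hy, ← pow_two, h2]
      exact map_one (reeHhom b.hA m)
    have h4 : orderOf (reeH b.hA m y) ∣ 2 := orderOf_dvd_of_pow_eq_one h3
    rcases (Nat.dvd_prime Nat.prime_two).1 h4 with h5 | h5
    · exact orderOf_eq_one_iff.1 h5
    · rw [h5] at ho
      exact absurd ho (by decide)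
  rw [eq_bot_iff]
  rintro g ⟨hg, hc⟩
  rw [Subgroup.mem_bot]
  exact ree_cent_trivial hK b α hα hy hy2 hg (Subgroup.mem_centralizer_iff.1 hc _ rfl)

end sigma

end Cfsg.Agent.Lib.Helper22
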