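import Cfsg.Agent.Lib.Helper22.Isog5
import Cfsg.Agent.Lib.Helper22.BaseChange
import Cfsg.Agent.Lib.Helper45.TwistU

set_option autoImplicit false

namespace Cfsg.Agent.Lib.Helper22
open Cfsg.Lie Matrix Cfsg.Agent.Lib.Helper23 Cfsg.Agent.Lib.Helper45

variable {D : ChevalleyDatum} {K : Type*} [Field K]

/-- the endomorphism of the Chevalley group induced by an endomorphism of the field. -/
noncomputable def fieldHom (hA : AddFact D K) (f : K →+* K) : ↥(D.group K) →* ↥(D.group K) :=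
  ((glMap D f).comp (D.group K).subtype).codRestrict (D.group K) (by
    intro g
    have h : (glMap D f) g ∈ (D.group K).map (glMap D f) := ⟨g, g.2, rfl⟩
    rw [map_group hA hA] at h
    refine (Subgroup.closure_le _).2 ?_ h
    rintro x ⟨r, t, _, rfl⟩
    exact hA.X_mem_group _ _)

theorem coe_fieldHom (hA : AddFact D K) (f : K →+* K) (g : ↥(D.group K)) :
    (fieldHom hA f g : GL D.Idx K) = glMap D f g := rfl

theorem fieldHom_X (hA : AddFact D K) (f : K →+* K) (r : ℕ) (t : K) :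
    fieldHom hA f ⟨hA.X r t, hA.X_mem_group r t⟩ = ⟨hA.X r (f t), hA.X_mem_group r _⟩ :=
  Subtype.ext (glMap_X hA hA f r t)

open Classical in
/-- extension by `1` of an endomorphism of the Chevalley group to a function on `GL`. -/
noncomputable def extG (σ₀ : ↥(D.group K) →* ↥(D.group K)) : GL D.Idx K → GL D.Idx K :=
  fun g => if h : g ∈ D.group K then (σ₀ ⟨g, h⟩ : GL D.Idx K) else 1

theorem extG_of_mem (σ₀ : ↥(D.group K) →* ↥(D.group K)) {g : GL D.Idx K} (h : g ∈ D.group K) :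
    extG σ₀ g = σ₀ ⟨g, h⟩ := dif_pos h

theorem extG_mem (σ₀ : ↥(D.group K) →* ↥(D.group K)) (g : GL D.Idx K) : extG σ₀ g ∈ D.group K := by
  unfold extG
  split_ifs with h
  · exact (σ₀ ⟨g, h⟩).2
  · exact one_mem _

theorem extG_mul (σ₀ : ↥(D.group K) →* ↥(D.group K)) :
    ∀ x ∈ D.group K, ∀ y ∈ D.group K, extG σ₀ (x * y) = extG σ₀ x * extG σ₀ y := by
  intro x hx y hy
  rw [extG_of_mem σ₀ hx, extG_of_mem σ₀ hy, extG_of_mem σ₀ (mul_mem hx hy)]
  have : (⟨x * y, mul_mem hx hy⟩ : ↥(D.group K)) = ⟨x, hx⟩ * ⟨y, hy⟩ := rfl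
  rw [this, map_mul]
  rfl

/-- the twisting map: a special isogeny composed with a field endomorphism. -/
noncomputable def twSigma (hA : AddFact D K) (α : ↥(D.group K) ≃* ↥(D.group K)) (f : K →+* K) :
    GL D.Idx K → GL D.Idx K := extG (α.toMonoidHom.comp (fieldHom hA f))

theorem isTwist_of (b : Bundle D K) (α : ↥(D.group K) ≃* ↥(D.group K)) (f : K →+* K) {ρ lam : ℕ → ℕ}
    (hα : ∀ r < D.nroots, ∀ t : K,
      (α ⟨b.hA.X r t, b.hA.X_mem_group r t⟩ : GL D.Idx K) = b.hA.X (ρ r) (t ^ lam r))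
    (hf : Function.Surjective f)
    (hpos : ∀ r, D.IsPosRoot r → D.IsPosRoot (ρ r)) (hneg : ∀ r, D.IsNegRoot r → D.IsNegRoot (ρ r))
    (hinv : ∀ r < D.nroots, ρ (ρ r) = r) (hnegIdx : ∀ r < D.nroots, ρ (D.neg r) = D.neg (ρ r))
    (hlam : ∀ r < D.nroots, lam (D.neg r) = lam r)
    (hsurj : ∀ r < D.nroots, ∀ x : K, ∃ y : K, y ^ lam r = x)
    (hodd : ∀ r < D.nroots, (-1 : K) ^ lam r = -1) :
    IsTwist b.hA (twSigma b.hA α f) ρ ρ (fun r t => (f t) ^ lam r) where
  mul := extG_mul _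
  hX := by
    intro r hr t
    unfold twSigma
    rw [extG_of_mem _ (b.hA.X_mem_group r t)]
    show (α (fieldHom b.hA f ⟨b.hA.X r t, _⟩) : GL D.Idx K) = _
    rw [fieldHom_X, hα r hr]
  pos := hpos
  neg := hneg
  lt' := by
    intro r hr
    rcases b.hR.pos_or_neg hr with h | h
    · exact (hpos r h).1
    · exact (hneg r h).1
  inv := hinv
  negIdx := hnegIdx
  surj := by
    intro r hr x
    obtain ⟨y, hy⟩ := hsurj r hr x
    obtain ⟨z, rfl⟩ := hf y
    exact ⟨z, hy⟩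
  ne := by
    intro r _ t ht
    exact pow_ne_zero _ ((map_ne_zero f).2 ht)
  cinv := by
    intro r hr t _
    show (f (-t⁻¹)) ^ lam (D.neg r) = -((f t) ^ lam r)⁻¹
    rw [hlam r hr, map_neg, map_inv₀, neg_pow, hodd r hr, inv_pow]
    ring

end Cfsg.Agent.Lib.Helper22
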