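import Cfsg.Agent.Lib.Helper22.Ree1
import Cfsg.Agent.Lib.Helper22.TwIso

set_option autoImplicit false
set_option maxRecDepth 100000

namespace Cfsg.Agent.Lib.Helper22
open Cfsg.Lie Matrix Cfsg.Agent.Lib.Helper23 Cfsg.Agent.Lib.Helper45

theorem charP_of_card_pow {K : Type*} [Field K] [Fintype K] {p k : ℕ} (hp : p.Prime)
    (hK : Fintype.card K = p ^ k) : CharP K p := by
  obtain ⟨n, hq, hc⟩ := FiniteField.card K (ringChar K)
  have h1 : ringChar K ∣ p ^ k := by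
    rw [← hK, hc]
    exact dvd_pow_self _ n.ne_zero
  have h2 : ringChar K = p := (Nat.prime_dvd_prime_iff_eq hq hp).1 (hq.dvd_of_dvd_pow h1)
  rw [← h2]
  exact ringChar.charP K

section field
variable (K : Type*) [Field K] [CharP K 3]

/-- the map `t ↦ t ^ (3 ^ m)`. -/
noncomputable def reeTh (m : ℕ) : K →+* K :=
  haveI : ExpChar K 3 := ExpChar.prime Nat.prime_three
  iterateFrobenius K 3 m

/-- the map `t ↦ t ^ (3 ^ (m + 1))`. -/
noncomputable def reePs (m : ℕ) : K →+* K :=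
  haveI : ExpChar K 3 := ExpChar.prime Nat.prime_three
  iterateFrobenius K 3 (m + 1)

variable {K}

theorem reeTh_apply (m : ℕ) (t : K) : reeTh K m t = t ^ 3 ^ m := by
  have : ExpChar K 3 := ExpChar.prime Nat.prime_three
  exact iterateFrobenius_def 3 m t

theorem reePs_apply (m : ℕ) (t : K) : reePs K m t = (reeTh K m t) ^ 3 := by
  have : ExpChar K 3 := ExpChar.prime Nat.prime_three
  rw [reeTh_apply]
  show iterateFrobenius K 3 (m + 1) t = _
  rw [iterateFrobenius_def, pow_succ, pow_mul]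

variable [Fintype K] {m : ℕ} (hK : Fintype.card K = 3 ^ (2 * m + 1))
include hK

theorem reePs_reeTh (t : K) : reePs K m (reeTh K m t) = t := by
  rw [reePs_apply, reeTh_apply, reeTh_apply, ← pow_mul, ← pow_mul]
  have : 3 ^ m * (3 ^ m * 3) = Fintype.card K := by rw [hK]; ring
  rw [this, FiniteField.pow_card]

theorem reeTh_reePs (t : K) : reeTh K m (reePs K m t) = t := by
  rw [reePs_apply, map_pow, ← reePs_apply, reePs_reeTh hK]

theorem reeTh_surj : Function.Surjective (reeTh K m) := fun t => ⟨_, reeTh_reePs hK t⟩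

theorem cube_surj (x : K) : ∃ y : K, y ^ 3 = x := by
  refine ⟨reeTh K m (reeTh K m x), ?_⟩
  rw [← reePs_apply, reePs_reeTh hK]

end field

theorem rhoG2_vals : isoRhoG2 0 = 2 ∧ isoRhoG2 1 = 3 ∧ isoRhoG2 2 = 0 ∧ isoRhoG2 3 = 1 ∧ isoRhoG2 4 = 5 ∧
    isoRhoG2 5 = 4 ∧ isoRhoG2 6 = 7 ∧ isoRhoG2 7 = 6 ∧ isoRhoG2 8 = 10 ∧ isoRhoG2 9 = 11 ∧ isoRhoG2 10 = 8 ∧
    isoRhoG2 11 = 9 := by decide +kernel

theorem lamG2_vals : isoLamG2 0 = 1 ∧ isoLamG2 1 = 1 ∧ isoLamG2 2 = 3 ∧ isoLamG2 3 = 3 ∧ isoLamG2 4 = 3 ∧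
    isoLamG2 5 = 1 ∧ isoLamG2 6 = 1 ∧ isoLamG2 7 = 3 ∧ isoLamG2 8 = 3 ∧ isoLamG2 9 = 3 ∧ isoLamG2 10 = 1 ∧
    isoLamG2 11 = 1 := by decide +kernel

/-- the general form of the generators of the Ree group. -/
def reeW {K : Type*} [Field K] (ra rb r8 r9 r10 r11 : ℕ) (s : K) (Θ : K →+* K) (t u v : K) : List (ℕ × K) :=
  [(ra, s * Θ t), (rb, s * t), (r8, s * (t * Θ t) + s * Θ u), (r9, s * (Θ t ^ 2 * t) + s * Θ v),
    (r10, s * u), (r11, s * v)]

section sigma
variable {K : Type*} [Field K] [CharP K 3] [Fintype K] {m : ℕ} (hK : Fintype.card K = 3 ^ (2 * m + 1))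
  (b : Bundle chevG2 K) (α : ↥(chevG2.group K) ≃* ↥(chevG2.group K))
  (hα : ∀ r < 12, ∀ t : K,
    (α ⟨b.hA.X r t, b.hA.X_mem_group r t⟩ : GL chevG2.Idx K) = b.hA.X (isoRhoG2 r) (t ^ isoLamG2 r))

/-- the twisting map of the Ree group. -/
noncomputable def reeSigma (m : ℕ) : GL chevG2.Idx K → GL chevG2.Idx K := twSigma b.hA α (reeTh K m)

include hK hα in
theorem ree_isTwist : IsTwist b.hA (reeSigma b α m) isoRhoG2 isoRhoG2
    (fun r t => (reeTh K m t) ^ isoLamG2 r) := by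
  apply isTwist_of b α (reeTh K m) hα (reeTh_surj hK)
  · intro r hr
    have h : ∀ r < 12, chevG2.IsPosRoot r → chevG2.IsPosRoot (isoRhoG2 r) := by decide +kernel
    exact h r hr.1 hr
  · intro r hr
    have h : ∀ r < 12, chevG2.IsNegRoot r → chevG2.IsNegRoot (isoRhoG2 r) := by decide +kernel
    exact h r hr.1 hr
  · have h : ∀ r < 12, isoRhoG2 (isoRhoG2 r) = r := by decide +kernel
    exact h
  · have h : ∀ r < 12, isoRhoG2 (chevG2.neg r) = chevG2.neg (isoRhoG2 r) := by decide +kernel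
    exact h
  · have h : ∀ r < 12, isoLamG2 (chevG2.neg r) = isoLamG2 r := by decide +kernel
    exact h
  · intro r _ x
    rcases lamF_cases 3 isoITG2 r with h | h
    · exact ⟨x, by show x ^ lamF 3 isoITG2 r = x; rw [h, pow_one]⟩
    · obtain ⟨y, hy⟩ := cube_surj hK x
      exact ⟨y, by show y ^ lamF 3 isoITG2 r = x; rw [h, hy]⟩
  · intro r _
    rcases lamF_cases 3 isoITG2 r with h | h
    · show (-1 : K) ^ lamF 3 isoITG2 r = -1
      rw [h, pow_one]
    · show (-1 : K) ^ lamF 3 isoITG2 r = -1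
      rw [h]; ring

end sigma

end Cfsg.Agent.Lib.Helper22
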