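import Cfsg.Agent.Lib.Helper22.Ree2

set_option autoImplicit false
set_option maxRecDepth 100000

namespace Cfsg.Agent.Lib.Helper22
open Cfsg.Lie Matrix Cfsg.Agent.Lib.Helper23 Cfsg.Agent.Lib.Helper45

/-- a function with six prescribed values. -/
def t6 {K : Type*} [Zero K] (a b c d e f : K) : ℕ → K := fun k =>
  if k = 7 then a else if k = 6 then b else if k = 8 then c else if k = 9 then d else if k = 10 then e
  else if k = 11 then f else 0

theorem wL_t6 {K : Type*} [Field K] (a b c d e f : K) : wL [7, 6, 8, 9, 10, 11] (t6 a b c d e f) =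
    [(7, a), (6, b), (8, c), (9, d), (10, e), (11, f)] := by
  simp [wL, t6]

theorem g2_pos_list : ∀ a, a ∈ [7, 6, 8, 9, 10, 11] ↔ chevG2.IsPosRoot a := by
  intro a
  rw [isPosRoot_iff_of_mem (by simp)]
  have : chevG2.nroots = 12 := rfl
  rw [this]
  simp only [List.mem_cons, List.not_mem_nil, or_false]
  omega

section uniq
variable {K : Type*} [Field K] (hA : AddFact chevG2 K)

theorem g2_exists6 {g : GL chevG2.Idx K} (hg : g ∈ chevG2.posUnipotent K) :
    ∃ a b c d e f : K, g = hA.W [(7, a), (6, b), (8, c), (9, d), (10, e), (11, f)] := by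
  obtain ⟨τ, rfl⟩ := exists_factor hA (uComm_of_mem K (by simp)) (L := [7, 6, 8, 9, 10, 11]) (by decide)
    g2_pos_list hg
  exact ⟨τ 7, τ 6, τ 8, τ 9, τ 10, τ 11, rfl⟩

theorem g2_unique6 {a b c d e f a' b' c' d' e' f' : K}
    (h : hA.W [(7, a), (6, b), (8, c), (9, d), (10, e), (11, f)] =
      hA.W [(7, a'), (6, b'), (8, c'), (9, d'), (10, e'), (11, f')]) :
    a = a' ∧ b = b' ∧ c = c' ∧ d = d' ∧ e = e' ∧ f = f' := by
  rw [← wL_t6, ← wL_t6] at h
  have h1 := factor_unique hA (uComm_of_mem K (by simp)) (uSep_of_mem (by simp) hA) (by decide)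
    (fun a ha => (g2_pos_list a).1 ha) h
  refine ⟨?_, ?_, ?_, ?_, ?_, ?_⟩
  · simpa [t6] using h1 7 (by simp)
  · simpa [t6] using h1 6 (by simp)
  · simpa [t6] using h1 8 (by simp)
  · simpa [t6] using h1 9 (by simp)
  · simpa [t6] using h1 10 (by simp)
  · simpa [t6] using h1 11 (by simp)

end uniq

section sigma
variable {K : Type*} [Field K] [CharP K 3] [Fintype K] {m : ℕ} (hK : Fintype.card K = 3 ^ (2 * m + 1))
  (b : Bundle chevG2 K) (α : ↥(chevG2.group K) ≃* ↥(chevG2.group K))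
  (hα : ∀ r < 12, ∀ t : K,
    (α ⟨b.hA.X r t, b.hA.X_mem_group r t⟩ : GL chevG2.Idx K) = b.hA.X (isoRhoG2 r) (t ^ isoLamG2 r))

include hK hα in
theorem sigma_pos6 (xa xb x8 x9 x10 x11 : K) :
    reeSigma b α m (b.hA.W [(7, xa), (6, xb), (8, x8), (9, x9), (10, x10), (11, x11)]) =
      b.hA.W [(6, reePs K m xa), (7, reeTh K m xb), (10, reePs K m x8), (11, reePs K m x9),
        (8, reeTh K m x10), (9, reeTh K m x11)] := by
  rw [sigma_W b (ree_isTwist hK b α hα) _ (by
    intro p hp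
    simp only [List.mem_cons, List.not_mem_nil, or_false] at hp
    have : chevG2.nroots = 12 := rfl
    rcases hp with rfl | rfl | rfl | rfl | rfl | rfl <;> simp [this])]
  obtain ⟨-, -, -, -, -, -, r6, r7, r8, r9, r10, r11⟩ := rhoG2_vals
  obtain ⟨-, -, -, -, -, -, l6, l7, l8, l9, l10, l11⟩ := lamG2_vals
  simp only [List.map_cons, List.map_nil, r6, r7, r8, r9, r10, r11, l6, l7, l8, l9, l10, l11, pow_one,
    reePs_apply]

include hK hα in
theorem sigma_neg6 (xa xb x8 x9 x10 x11 : K) :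
    reeSigma b α m (b.hA.W [(4, xa), (5, xb), (3, x8), (2, x9), (1, x10), (0, x11)]) =
      b.hA.W [(5, reePs K m xa), (4, reeTh K m xb), (1, reePs K m x8), (0, reePs K m x9),
        (3, reeTh K m x10), (2, reeTh K m x11)] := by
  rw [sigma_W b (ree_isTwist hK b α hα) _ (by
    intro p hp
    simp only [List.mem_cons, List.not_mem_nil, or_false] at hp
    have : chevG2.nroots = 12 := rfl
    rcases hp with rfl | rfl | rfl | rfl | rfl | rfl <;> simp [this])]
  obtain ⟨r0, r1, r2, r3, r4, r5, -, -, -, -, -, -⟩ := rhoG2_vals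
  obtain ⟨l0, l1, l2, l3, l4, l5, -, -, -, -, -, -⟩ := lamG2_vals
  simp only [List.map_cons, List.map_nil, r0, r1, r2, r3, r4, r5, l0, l1, l2, l3, l4, l5, pow_one,
    reePs_apply]

include hK in
/-- the generators are fixed by the twisting map (formal part). -/
theorem reeW_fixed_aux {ra rb r8 r9 r10 r11 : ℕ} {s : K} (R : ReeRel b.hA ra rb r8 r9 r10 r11 s)
    (hs : reeTh K m s = s) (t u v : K) :
    b.hA.W [(rb, reePs K m (s * reeTh K m t)), (ra, reeTh K m (s * t)),
      (r10, reePs K m (s * (t * reeTh K m t) + s * reeTh K m u)),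
      (r11, reePs K m (s * (reeTh K m t ^ 2 * t) + s * reeTh K m v)),
      (r8, reeTh K m (s * u)), (r9, reeTh K m (s * v))] = b.hA.W (reeW ra rb r8 r9 r10 r11 s (reeTh K m) t u v) := by
  have hs' : reePs K m s = s := by
    conv_lhs => rw [← hs]
    exact reePs_reeTh hK s
  simp only [map_mul, map_add, map_pow, hs, hs', reePs_reeTh hK]
  rw [R.master]
  unfold reeW
  rw [reePs_apply]
  congr 1
  simp only [List.cons.injEq, Prod.mk.injEq, true_and, and_true]
  refine ⟨?_, ?_⟩ <;> ring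

include hK hα in
theorem reeU_fixed (t u v : K) :
    reeSigma b α m (b.hA.W (reeW 7 6 8 9 10 11 1 (reeTh K m) t u v)) =
      b.hA.W (reeW 7 6 8 9 10 11 1 (reeTh K m) t u v) := by
  conv_lhs => unfold reeW
  rw [sigma_pos6 hK b α hα]
  exact reeW_fixed_aux hK b (reeRel_pos b.hA) (map_one _) t u v

include hK hα in
theorem reeV_fixed (t u v : K) :
    reeSigma b α m (b.hA.W (reeW 4 5 3 2 1 0 (-1) (reeTh K m) t u v)) =
      b.hA.W (reeW 4 5 3 2 1 0 (-1) (reeTh K m) t u v) := by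
  conv_lhs => unfold reeW
  rw [sigma_neg6 hK b α hα]
  exact reeW_fixed_aux hK b (reeRel_neg b.hA) (by rw [map_neg, map_one]) t u v

include hK hα in
/-- the fixed points of the twisting map on `U`. -/
theorem ree_U_fix {g : GL chevG2.Idx K} (hg : g ∈ chevG2.posUnipotent K) (hfix : reeSigma b α m g = g) :
    ∃ t u v : K, g = b.hA.W (reeW 7 6 8 9 10 11 1 (reeTh K m) t u v) := by
  obtain ⟨xa, xb, x8, x9, x10, x11, rfl⟩ := g2_exists6 b.hA hg
  rw [sigma_pos6 hK b α hα] at hfix
  have h1 := (reeRel_pos b.hA).master (reePs K m xa) (reeTh K m xb) (reeTh K m x10) (reeTh K m x11)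
    (reePs K m x8) (reePs K m x9)
  simp only [one_mul] at h1
  rw [h1] at hfix
  obtain ⟨e1, e2, e3, e4, -, -⟩ := g2_unique6 b.hA hfix
  refine ⟨xb, x10, x11, ?_⟩
  unfold reeW
  simp only [one_mul]
  rw [e2] at e3 e4
  rw [← e1, ← e3, ← e4]

end sigma

end Cfsg.Agent.Lib.Helper22
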