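import Cfsg.Agent.Lib.Helper22.Ree3
import Cfsg.Agent.Lib.Helper22.ChevNormP

set_option autoImplicit false
set_option maxRecDepth 100000

namespace Cfsg.Agent.Lib.Helper22
open Cfsg.Lie Matrix Cfsg.Agent.Lib.Helper23 Cfsg.Agent.Lib.Helper45

section words
variable {K : Type*} [Field K] [CharP K 3]

theorem reeWordU_eq (m : ℕ) (t u v : K) :
    reeWordU (3 ^ m) t u v = reeW 7 6 8 9 10 11 1 (reeTh K m) t u v := by
  unfold reeWordU reeW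
  simp only [reeTh_apply, one_mul, g2a, g2b, g2ab, g2aab, g2aaab, g2aaabb]
  congr 3
  · congr 2; ring
  · congr 3; ring

theorem reeWordV_eq (m : ℕ) (t u v : K) :
    reeWordV (3 ^ m) t u v = reeW 4 5 3 2 1 0 (-1) (reeTh K m) t u v := by
  unfold reeWordV ChevalleyDatum.negWord
  rw [reeWordU_eq]
  unfold reeW
  have e : chevG2.negIdx.getD 7 0 = 4 ∧ chevG2.negIdx.getD 6 0 = 5 ∧ chevG2.negIdx.getD 8 0 = 3 ∧
      chevG2.negIdx.getD 9 0 = 2 ∧ chevG2.negIdx.getD 10 0 = 1 ∧ chevG2.negIdx.getD 11 0 = 0 := by decide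
  obtain ⟨e1, e2, e3, e4, e5, e6⟩ := e
  simp only [List.map_cons, List.map_nil, e1, e2, e3, e4, e5, e6, one_mul, neg_mul, neg_add]

theorem twistedG2_eq (hA : AddFact chevG2 K) (m : ℕ) : twistedG2 K (3 ^ m) = Subgroup.closure
    ({g | ∃ t u v : K, g = hA.W (reeW 7 6 8 9 10 11 1 (reeTh K m) t u v)} ∪
      {g | ∃ t u v : K, g = hA.W (reeW 4 5 3 2 1 0 (-1) (reeTh K m) t u v)}) := by
  unfold twistedG2 ChevalleyDatum.genSubgroup g2Words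
  congr 1
  ext g
  constructor
  · rintro ⟨w, ⟨t, u, v, rfl | rfl⟩, hg⟩
    · left
      exact ⟨t, u, v, by rw [← reeWordU_eq]; exact (hA.eq_W_iff _ _).1 hg⟩
    · right
      exact ⟨t, u, v, by rw [← reeWordV_eq]; exact (hA.eq_W_iff _ _).1 hg⟩
  · rintro (⟨t, u, v, rfl⟩ | ⟨t, u, v, rfl⟩)
    · exact ⟨_, ⟨t, u, v, Or.inl rfl⟩, by rw [reeWordU_eq, hA.coe_W]⟩
    · exact ⟨_, ⟨t, u, v, Or.inr rfl⟩, by rw [reeWordV_eq, hA.coe_W]⟩

theorem reeU_mem (hA : AddFact chevG2 K) (m : ℕ) (t u v : K) :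
    hA.W (reeW 7 6 8 9 10 11 1 (reeTh K m) t u v) ∈ twistedG2 K (3 ^ m) := by
  rw [twistedG2_eq hA]
  exact Subgroup.subset_closure (Or.inl ⟨t, u, v, rfl⟩)

theorem reeV_mem (hA : AddFact chevG2 K) (m : ℕ) (t u v : K) :
    hA.W (reeW 4 5 3 2 1 0 (-1) (reeTh K m) t u v) ∈ twistedG2 K (3 ^ m) := by
  rw [twistedG2_eq hA]
  exact Subgroup.subset_closure (Or.inr ⟨t, u, v, rfl⟩)

theorem W_mem_pos' {D : ChevalleyDatum} {F : Type*} [Field F] (hA : AddFact D F) {w : List (ℕ × F)}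
    (hw : ∀ p ∈ w, D.IsPosRoot p.1) : hA.W w ∈ D.posUnipotent F := by
  apply Subgroup.list_prod_mem
  intro x hx
  obtain ⟨p, hp, rfl⟩ := List.mem_map.1 hx
  exact hA.X_mem_pos (hw p hp) _

theorem W_mem_neg' {D : ChevalleyDatum} {F : Type*} [Field F] (hA : AddFact D F) {w : List (ℕ × F)}
    (hw : ∀ p ∈ w, D.IsNegRoot p.1) : hA.W w ∈ D.negUnipotent F := by
  apply Subgroup.list_prod_mem
  intro x hx
  obtain ⟨p, hp, rfl⟩ := List.mem_map.1 hx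
  exact hA.X_mem_neg (hw p hp) _

theorem reeU_mem_pos (hA : AddFact chevG2 K) (Θ : K →+* K) (t u v : K) :
    hA.W (reeW 7 6 8 9 10 11 1 Θ t u v) ∈ chevG2.posUnipotent K := by
  apply W_mem_pos'
  intro p hp
  unfold reeW at hp
  simp only [List.mem_cons, List.not_mem_nil, or_false] at hp
  rcases hp with rfl | rfl | rfl | rfl | rfl | rfl <;> exact (g2_pos_list _).1 (by simp)

/-- the word of the longest element. -/
def reeOm : List ℕ := [0, 1, 0, 1, 0, 1]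

theorem reeOm_lt : ∀ i ∈ reeOm, i < chevG2.rank := by decide

/-- the representative of the longest element lies in the Ree group. -/
theorem ree_n0_eq (hA : AddFact chevG2 K) (Θ : K →+* K) :
    hA.W (reeW 7 6 8 9 10 11 1 Θ 0 1 0) * hA.W (reeW 4 5 3 2 1 0 (-1) Θ 0 1 0) *
      hA.W (reeW 7 6 8 9 10 11 1 Θ 0 1 0) = hA.nword reeOm := by
  have h := W_eq_of_checkIdNP tbG2_valid 3 hA
    (w1 := [(8, ⟨2, 0, 0, 0, 0⟩), (10, ⟨2, 0, 0, 0, 0⟩), (3, ⟨3, 0, 0, 0, 0⟩), (1, ⟨3, 0, 0, 0, 0⟩),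
      (8, ⟨2, 0, 0, 0, 0⟩), (10, ⟨2, 0, 0, 0, 0⟩)])
    (w2 := [(7, ⟨2, 0, 0, 0, 0⟩), (4, ⟨3, 0, 0, 0, 0⟩), (7, ⟨2, 0, 0, 0, 0⟩),
      (6, ⟨2, 0, 0, 0, 0⟩), (5, ⟨3, 0, 0, 0, 0⟩), (6, ⟨2, 0, 0, 0, 0⟩),
      (7, ⟨2, 0, 0, 0, 0⟩), (4, ⟨3, 0, 0, 0, 0⟩), (7, ⟨2, 0, 0, 0, 0⟩),
      (6, ⟨2, 0, 0, 0, 0⟩), (5, ⟨3, 0, 0, 0, 0⟩), (6, ⟨2, 0, 0, 0, 0⟩),
      (7, ⟨2, 0, 0, 0, 0⟩), (4, ⟨3, 0, 0, 0, 0⟩), (7, ⟨2, 0, 0, 0, 0⟩),
      (6, ⟨2, 0, 0, 0, 0⟩), (5, ⟨3, 0, 0, 0, 0⟩), (6, ⟨2, 0, 0, 0, 0⟩)])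
    (by decide) (by decide) (by decide +kernel) (envTU 0 0)
  have e1 : Mono.eval (envTU (0 : K) 0) ⟨2, 0, 0, 0, 0⟩ = 1 := by simp [Mono.eval, dc_two]
  have e2 : Mono.eval (envTU (0 : K) 0) ⟨3, 0, 0, 0, 0⟩ = -1 := by simp [Mono.eval, dc_three]
  simp only [AddFact.W, List.map_cons, List.map_nil, List.prod_cons, List.prod_nil, mul_one, e1, e2] at h
  have s0 : chevG2.simple 0 = 7 := by decide
  have s1 : chevG2.simple 1 = 6 := by decide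
  have n7 : chevG2.neg 7 = 4 := by decide
  have n6 : chevG2.neg 6 = 5 := by decide
  have f0 : hA.nn 0 = hA.X 7 1 * (hA.X 4 (-1) * hA.X 7 1) := by
    unfold AddFact.nn
    rw [← hA.W_nWord, nWord_def, s0, n7]
    simp [AddFact.W]
  have f1 : hA.nn 1 = hA.X 6 1 * (hA.X 5 (-1) * hA.X 6 1) := by
    unfold AddFact.nn
    rw [← hA.W_nWord, nWord_def, s1, n6]
    simp [AddFact.W]
  unfold reeOm
  simp only [AddFact.nword_cons, AddFact.nword_nil, mul_one, f0, f1, reeW, AddFact.W, List.map_cons, List.map_nil,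
    List.prod_cons, List.prod_nil, map_zero, map_one, mul_zero, zero_mul, add_zero, zero_add, hA.X_zero, one_mul,
    mul_one, ne_eq, OfNat.ofNat_ne_zero, not_false_eq_true, zero_pow]
  simp only [mul_assoc] at h ⊢
  exact h

theorem ree_n0_mem (hA : AddFact chevG2 K) (m : ℕ) : hA.nword reeOm ∈ twistedG2 K (3 ^ m) := by
  rw [← ree_n0_eq hA (reeTh K m)]
  exact mul_mem (mul_mem (reeU_mem hA m _ _ _) (reeV_mem hA m _ _ _)) (reeU_mem hA m _ _ _)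

theorem ree_subOK : SubOK chevG2 isoRhoG2 isoRhoG2 reeOm := by
  unfold SubOK
  decide +kernel

end words

end Cfsg.Agent.Lib.Helper22
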