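import Cfsg.Agent.Lib.Helper22.Ree4

set_option autoImplicit false
set_option maxRecDepth 100000

namespace Cfsg.Agent.Lib.Helper22
open Cfsg.Lie Matrix Cfsg.Agent.Lib.Helper23 Cfsg.Agent.Lib.Helper45

section sigma
variable {K : Type*} [Field K] [CharP K 3] [Fintype K] {m : ℕ} (hK : Fintype.card K = 3 ^ (2 * m + 1))
  (b : Bundle chevG2 K) (α : ↥(chevG2.group K) ≃* ↥(chevG2.group K))
  (hα : ∀ r < 12, ∀ t : K,
    (α ⟨b.hA.X r t, b.hA.X_mem_group r t⟩ : GL chevG2.Idx K) = b.hA.X (isoRhoG2 r) (t ^ isoLamG2 r))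

omit [Fintype K] in
theorem ree_G1_le (hA : AddFact chevG2 K) (m : ℕ) : twistedG2 K (3 ^ m) ≤ chevG2.group K := by
  rw [twistedG2_eq hA, Subgroup.closure_le]
  rintro g (⟨t, u, v, rfl⟩ | ⟨t, u, v, rfl⟩) <;> exact hA.W_mem_group _

/-- the fixed points of the twisting map. -/
noncomputable def reeFix : Subgroup (GL chevG2.Idx K) :=
  FixS (chevG2.group K) (reeSigma b α m) (ree_isTwist hK b α hα).mul

theorem ree_G1_fix : twistedG2 K (3 ^ m) ≤ reeFix hK b α hα := by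
  rw [twistedG2_eq b.hA, Subgroup.closure_le]
  rintro g (⟨t, u, v, rfl⟩ | ⟨t, u, v, rfl⟩)
  · exact ⟨b.hA.W_mem_group _, reeU_fixed hK b α hα t u v⟩
  · exact ⟨b.hA.W_mem_group _, reeV_fixed hK b α hα t u v⟩

theorem ree_U_fix' : ∀ u ∈ chevG2.posUnipotent K, u ∈ reeFix hK b α hα → u ∈ twistedG2 K (3 ^ m) := by
  intro u hu hf
  obtain ⟨t, u', v, rfl⟩ := ree_U_fix hK b α hα hu hf.2
  exact reeU_mem b.hA m _ _ _

omit [Fintype K] [CharP K 3] in
theorem ree_conj_neg {w : List (ℕ × K)} (hw : w.map Prod.fst = [4, 5, 3, 2, 1, 0]) :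
    (b.hA.nword reeOm)⁻¹ * b.hA.W w * b.hA.nword reeOm ∈ chevG2.posUnipotent K := by
  have hlt : ∀ p ∈ w, p.1 < chevG2.nroots := by
    intro p hp
    have : p.1 ∈ w.map Prod.fst := List.mem_map_of_mem hp
    rw [hw] at this
    have h12 : chevG2.nroots = 12 := rfl
    rw [h12]
    simp only [List.mem_cons, List.not_mem_nil, or_false] at this
    omega
  obtain ⟨w', h1, h2⟩ := conj_W_acts b (acts_nword_inv b reeOm_lt) w hlt
  rw [inv_inv] at h2
  rw [h2]
  apply W_mem_pos'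
  intro p hp
  have : p.1 ∈ w'.map Prod.fst := List.mem_map_of_mem hp
  rw [h1, hw] at this
  have hd : ∀ r ∈ [4, 5, 3, 2, 1, 0].map (wact chevG2 reeOm.reverse), chevG2.IsPosRoot r := by decide +kernel
  exact hd _ this

omit [Fintype K] [CharP K 3] in
theorem ree_conj_pos {w : List (ℕ × K)} (hw : w.map Prod.fst = [7, 6, 8, 9, 10, 11]) :
    b.hA.nword reeOm * b.hA.W w * (b.hA.nword reeOm)⁻¹ ∈ chevG2.negUnipotent K := by
  have hlt : ∀ p ∈ w, p.1 < chevG2.nroots := by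
    intro p hp
    have : p.1 ∈ w.map Prod.fst := List.mem_map_of_mem hp
    rw [hw] at this
    have h12 : chevG2.nroots = 12 := rfl
    rw [h12]
    simp only [List.mem_cons, List.not_mem_nil, or_false] at this
    omega
  obtain ⟨w', h1, h2⟩ := conj_W_acts b (acts_nword b reeOm_lt) w hlt
  rw [h2]
  apply W_mem_neg'
  intro p hp
  have : p.1 ∈ w'.map Prod.fst := List.mem_map_of_mem hp
  rw [h1, hw] at this
  have hd : ∀ r ∈ [7, 6, 8, 9, 10, 11].map (wact chevG2 reeOm), chevG2.IsNegRoot r := by decide +kernel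
  exact hd _ this

omit [Fintype K] [CharP K 3] in
theorem ree_n0_sq : b.hA.nword reeOm * b.hA.nword reeOm ∈ chevG2.diagonalSubgroup K := by
  have hN := b.hA.nword_mem_mono (F := K) b.hR reeOm_lt
  refine ((acts_nword b reeOm_lt).mul (acts_nword b reeOm_lt)
    (fun r hr => b.hR.wact_lt reeOm_lt hr)).mem_diag b (mul_mem hN hN) ?_
  intro r hr
  have hd : ∀ r < 12, chevG2.IsPosRoot r → chevG2.IsPosRoot ((wact chevG2 reeOm ∘ wact chevG2 reeOm) r) := by
    decide +kernel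
  exact hd r hr.1 hr

omit [Fintype K] [CharP K 3] in
theorem reeU_ne_one (Θ : K →+* K) {t u v : K} (h : b.hA.W (reeW 7 6 8 9 10 11 1 Θ t u v) = 1) :
    t = 0 ∧ u = 0 ∧ v = 0 := by
  have e : (1 : GL chevG2.Idx K) = b.hA.W [(7, 0), (6, 0), (8, 0), (9, 0), (10, 0), (11, 0)] := by
    simp [AddFact.W]
  rw [e] at h
  unfold reeW at h
  obtain ⟨-, h2, -, -, h5, h6⟩ := g2_unique6 b.hA h
  simp only [one_mul] at h2 h5 h6
  exact ⟨h2, h5, h6⟩

theorem ree_fixBN : FixBN (chevG2.group K) (chevG2.borelSubgroup K) (chevG2.monomialSubgroup K)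
    (chevG2.diagonalSubgroup K) (chevG2.posUnipotent K) (Umin chevG2 K) (reeFix hK b α hα)
    (twistedG2 K (3 ^ m)) {b.hA.nword reeOm} where
  G1_le := ree_G1_le b.hA m
  G1_fix := ree_G1_fix hK b α hα
  U_fix := ree_U_fix' hK b α hα
  S1_N := by
    rintro s rfl
    exact b.hA.nword_mem_mono b.hR reeOm_lt
  S1_G1 := by
    rintro s rfl
    exact ree_n0_mem b.hA m
  F1 := ((ree_isTwist hK b α hα).sigmaBN b).F1 (sharpBN_of_mem K (by simp))
  T3 := by
    rintro s rfl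
    exact chev_T3 b (ree_isTwist hK b α hα) (sharpBN_of_mem K (by simp)) reeOm_lt ree_subOK (one_mem _)
      (mul_one _).symm
  gen := by
    conv_lhs => rw [twistedG2_eq b.hA]
    rw [Subgroup.closure_le]
    rintro g (⟨t, u, v, rfl⟩ | ⟨t, u, v, rfl⟩)
    · exact Subgroup.subset_closure (Or.inl ⟨AddFact.pos_le_borel (reeU_mem_pos b.hA _ t u v), reeU_mem b.hA m t u v⟩)
    · set y := b.hA.W (reeW 4 5 3 2 1 0 (-1) (reeTh K m) t u v) with hy
      set n0 := b.hA.nword reeOm with hn0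
      have hz : n0⁻¹ * y * n0 ∈ chevG2.posUnipotent K := ree_conj_neg b rfl
      have hn0F : n0 ∈ reeFix hK b α hα := ree_G1_fix hK b α hα (ree_n0_mem b.hA m)
      have hyF : y ∈ reeFix hK b α hα := ree_G1_fix hK b α hα (reeV_mem b.hA m t u v)
      have hzF : n0⁻¹ * y * n0 ∈ reeFix hK b α hα := mul_mem (mul_mem (inv_mem hn0F) hyF) hn0F
      have hz1 := ree_U_fix' hK b α hα _ hz hzF
      have e : y = n0 * (n0⁻¹ * y * n0) * n0⁻¹ := by group
      have hn0c : n0 ∈ Subgroup.closure (((chevG2.borelSubgroup K ⊓ twistedG2 K (3 ^ m) :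
          Subgroup (GL chevG2.Idx K)) : Set (GL chevG2.Idx K)) ∪ {n0}) :=
        Subgroup.subset_closure (Or.inr rfl)
      rw [SetLike.mem_coe, e]
      exact mul_mem (mul_mem hn0c (Subgroup.subset_closure (Or.inl ⟨AddFact.pos_le_borel hz, hz1⟩))) (inv_mem hn0c)
  sq := by
    rintro s rfl
    exact ree_n0_sq b
  inj := by
    rintro s rfl s' rfl _
    rfl
  ne := by
    rintro s rfl
    refine ⟨b.hA.W (reeW 7 6 8 9 10 11 1 (reeTh K m) 0 1 0),
      AddFact.pos_le_borel (reeU_mem_pos b.hA _ _ _ _), reeU_mem b.hA m _ _ _, fun hB => ?_⟩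
    set y := b.hA.W (reeW 7 6 8 9 10 11 1 (reeTh K m) 0 1 0) with hy
    set n0 := b.hA.nword reeOm with hn0
    have h1 : n0 * y * n0⁻¹ ∈ chevG2.negUnipotent K := ree_conj_pos b rfl
    have h2 : n0 * y * n0⁻¹ ∈ chevG2.borelSubgroup K := by
      have e : n0 * y * n0⁻¹ = (n0 * y * n0) * (n0 * n0)⁻¹ := by group
      rw [e]
      exact mul_mem hB (inv_mem (AddFact.diag_le_borel (ree_n0_sq b)))
    have h3 : n0 * y * n0⁻¹ ∈ chevG2.borelSubgroup K ⊓ chevG2.negUnipotent K := ⟨h2, h1⟩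
    rw [b.hTri.BV, Subgroup.mem_bot] at h3
    have h4 : y = 1 := by
      have : y = n0⁻¹ * (n0 * y * n0⁻¹) * n0 := by group
      rw [this, h3]; group
    exact one_ne_zero (reeU_ne_one b _ h4).2.1

include hK hα in
/-- the `(B, N)`-pair of the Ree group. -/
theorem ree_bnPair : ∃ P : Cfsg.BNPair ↥(twistedG2 K (3 ^ m)),
    P.B = (chevG2.borelSubgroup K ⊓ twistedG2 K (3 ^ m)).subgroupOf (twistedG2 K (3 ^ m)) ∧
    P.N = (chevG2.monomialSubgroup K ⊓ twistedG2 K (3 ^ m)).subgroupOf (twistedG2 K (3 ^ m)) ∧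
    P.S = {s : ↥(twistedG2 K (3 ^ m)) | (s : GL chevG2.Idx K) ∈ ({b.hA.nword reeOm} : Set (GL chevG2.Idx K))} :=
  (ree_fixBN hK b α hα).exists_bnPair (sharpBN_of_mem K (by simp))

end sigma

end Cfsg.Agent.Lib.Helper22
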