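import Cfsg.Agent.Lib.Helper22.Ree5

set_option autoImplicit false
set_option maxRecDepth 100000

namespace Cfsg.Agent.Lib.Helper22
open Cfsg.Lie Matrix Cfsg.Agent.Lib.Helper23 Cfsg.Agent.Lib.Helper45

section sigma
variable {K : Type*} [Field K] [CharP K 3] [Fintype K] {m : ℕ} (hK : Fintype.card K = 3 ^ (2 * m + 1))
  (b : Bundle chevG2 K) (α : ↥(chevG2.group K) ≃* ↥(chevG2.group K))
  (hα : ∀ r < 12, ∀ t : K,
    (α ⟨b.hA.X r t, b.hA.X_mem_group r t⟩ : GL chevG2.Idx K) = b.hA.X (isoRhoG2 r) (t ^ isoLamG2 r))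

/-- the elements of `U¹`. -/
noncomputable def reeU (hA : AddFact chevG2 K) (m : ℕ) (t u v : K) : GL chevG2.Idx K :=
  hA.W (reeW 7 6 8 9 10 11 1 (reeTh K m) t u v)

include hK hα in
theorem mem_reeU1_iff (g : GL chevG2.Idx K) :
    g ∈ chevG2.posUnipotent K ⊓ twistedG2 K (3 ^ m) ↔ ∃ t u v : K, g = reeU b.hA m t u v := by
  constructor
  · rintro ⟨h1, h2⟩
    exact ree_U_fix hK b α hα h1 (ree_G1_fix hK b α hα h2).2
  · rintro ⟨t, u, v, rfl⟩
    exact ⟨reeU_mem_pos b.hA _ t u v, reeU_mem b.hA m t u v⟩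

omit [Fintype K] in
theorem reeU_inj {t u v t' u' v' : K} (h : reeU b.hA m t u v = reeU b.hA m t' u' v') :
    t = t' ∧ u = u' ∧ v = v' := by
  unfold reeU reeW at h
  obtain ⟨-, h2, -, -, h5, h6⟩ := g2_unique6 b.hA h
  simp only [one_mul] at h2 h5 h6
  exact ⟨h2, h5, h6⟩

include hK hα in
theorem card_reeU1 : Nat.card ↥(chevG2.posUnipotent K ⊓ twistedG2 K (3 ^ m)) = (3 ^ (2 * m + 1)) ^ 3 := by
  let f : K × K × K → ↥(chevG2.posUnipotent K ⊓ twistedG2 K (3 ^ m)) := fun p =>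
    ⟨reeU b.hA m p.1 p.2.1 p.2.2, (mem_reeU1_iff hK b α hα _).2 ⟨_, _, _, rfl⟩⟩
  have hf : Function.Bijective f := by
    constructor
    · rintro ⟨t, u, v⟩ ⟨t', u', v'⟩ h
      obtain ⟨h1, h2, h3⟩ := reeU_inj b (congrArg Subtype.val h)
      simp only at h1 h2 h3
      rw [h1, h2, h3]
    · rintro ⟨g, hg⟩
      obtain ⟨t, u, v, rfl⟩ := (mem_reeU1_iff hK b α hα _).1 hg
      exact ⟨(t, u, v), rfl⟩
  rw [← Nat.card_congr (Equiv.ofBijective f hf), Nat.card_prod, Nat.card_prod, Nat.card_eq_fintype_card, hK]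
  ring

end sigma

end Cfsg.Agent.Lib.Helper22
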