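import Cfsg.Agent.Lib.Helper22.Ree6
import Cfsg.Agent.Lib.Helper22.HInjG2
import Cfsg.Agent.Lib.Helper22.ChevAll

set_option autoImplicit false
set_option maxRecDepth 100000

namespace Cfsg.Agent.Lib.Helper22
open Cfsg.Lie Matrix Cfsg.Agent.Lib.Helper23 Cfsg.Agent.Lib.Helper45

section torus
variable {K : Type*} [Field K] (hA : AddFact chevG2 K)

/-- the element `h_a(x) h_b(y)` of `H`. -/
noncomputable def hh (x y : K) : GL chevG2.Idx K := hA.hG 7 x * hA.hG 6 y

/-- the character of `h_a(x) h_b(y)`. -/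
noncomputable def hhChi (x y : K) (s : ℕ) : K := x ^ chevG2.pairing 7 s * y ^ chevG2.pairing 6 s

theorem coe_hG_diag {r : ℕ} (hr : r < 12) {c : K} (hc : c ≠ 0) :
    ((hA.hG r c : GL chevG2.Idx K) : Matrix chevG2.Idx chevG2.Idx K) = dg chevG2 fun s => c ^ chevG2.pairing r s := by
  rw [hA.coe_hG, hMat_diag_all chevG2 (by simp) hr c hc]
  rfl

theorem coe_hh {x y : K} (hx : x ≠ 0) (hy : y ≠ 0) :
    ((hh hA x y : GL chevG2.Idx K) : Matrix chevG2.Idx chevG2.Idx K) = dg chevG2 (hhChi x y) := by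
  unfold hh
  rw [Units.val_mul, coe_hG_diag hA (by decide) hx, coe_hG_diag hA (by decide) hy, dg_mul]
  rfl

theorem dg_congr {χ χ' : ℕ → K} (h : ∀ s < 12, χ s = χ' s) : dg chevG2 χ = dg chevG2 χ' := by
  unfold dg
  congr 1
  funext i
  rcases i with i | s
  · rfl
  · exact h s.val s.isLt

theorem hh_mem_diag {x y : K} (hx : x ≠ 0) (hy : y ≠ 0) : hh hA x y ∈ chevG2.diagonalSubgroup K :=
  mul_mem (hA.hG_mem_diag (by decide) hx) (hA.hG_mem_diag (by decide) hy)

theorem hh_mul {x y x' y' : K} (hx : x ≠ 0) (hy : y ≠ 0) (hx' : x' ≠ 0) (hy' : y' ≠ 0) :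
    hh hA x y * hh hA x' y' = hh hA (x * x') (y * y') := by
  apply Units.ext
  rw [Units.val_mul, coe_hh hA hx hy, coe_hh hA hx' hy', coe_hh hA (mul_ne_zero hx hx') (mul_ne_zero hy hy'), dg_mul]
  apply dg_congr
  intro s _
  unfold hhChi
  rw [mul_zpow, mul_zpow]
  ring

theorem hh_eq_flat (x y : K) : hh hA x y = hA.W (hFlat chevG2 fun i => if i = 0 then x else y) := by
  have e : hFlat chevG2 (fun i => if i = 0 then x else y) = chevG2.hWord 7 x ++ chevG2.hWord 6 y := by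
    have h2 : chevG2.rank = 2 := rfl
    have s0 : chevG2.simple 0 = 7 := by decide
    have s1 : chevG2.simple 1 = 6 := by decide
    unfold hFlat
    rw [h2]
    simp [List.range_succ, s0, s1]
  rw [e, hA.W_append, hA.W_hWord, hA.W_hWord]
  rfl

theorem hh_inj {x y x' y' : K} (hx : x ≠ 0) (hy : y ≠ 0) (hx' : x' ≠ 0) (hy' : y' ≠ 0)
    (h : hh hA x y = hh hA x' y') : x = x' ∧ y = y' := by
  rw [hh_eq_flat, hh_eq_flat] at h
  have h1 := congrArg (fun g : GL chevG2.Idx K => (g : Matrix chevG2.Idx chevG2.Idx K)) h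
  simp only [hA.coe_W] at h1
  have h2 := hinjG2 _ _ (by intro i _; split_ifs <;> assumption)
    (by intro i _; split_ifs <;> assumption) h1
  exact ⟨by simpa using h2 0 (by decide), by simpa using h2 1 (by decide)⟩

theorem exists_hh {h : GL chevG2.Idx K} (hh' : h ∈ chevG2.diagonalSubgroup K) :
    ∃ x y : K, x ≠ 0 ∧ y ≠ 0 ∧ h = hh hA x y := by
  obtain ⟨c, hc, e⟩ := (bruhatPack_of_mem K (D := chevG2) (by simp)).hH h hh'
  refine ⟨c 0, c 1, hc 0 (by decide), hc 1 (by decide), ?_⟩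
  rw [hh_eq_flat]
  have e2 : hFlat chevG2 c = hFlat chevG2 fun i => if i = 0 then c 0 else c 1 := by
    apply hFlat_congr
    intro i hi
    have h2 : chevG2.rank = 2 := rfl
    rw [h2] at hi
    interval_cases i <;> simp
  rw [← e2]
  exact (hA.eq_W_iff _ _).1 e

/-- conjugation by `h_a(x) h_b(y)`. -/
theorem hh_conj {x y : K} (hx : x ≠ 0) (hy : y ≠ 0) {s : ℕ} (hs : s < 12) (t : K) :
    hh hA x y * hA.X s t * (hh hA x y)⁻¹ = hA.X s (hhChi x y s * t) := by
  have h1 : ∀ (r : ℕ) (_ : r < 12) (c : K) (_ : c ≠ 0) (t : K),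
      hA.hG r c * hA.X s t * (hA.hG r c)⁻¹ = hA.X s (c ^ chevG2.pairing r s * t) := by
    intro r hr c hc t
    rw [mul_inv_eq_iff_eq_mul]
    apply Units.ext
    simp only [Units.val_mul, hA.coe_X, hA.coe_hG]
    exact hMat_conj_all chevG2 (by simp) hr hs c hc t
  unfold hh hhChi
  have e : hA.hG 7 x * hA.hG 6 y * hA.X s t * (hA.hG 7 x * hA.hG 6 y)⁻¹ =
      hA.hG 7 x * (hA.hG 6 y * hA.X s t * (hA.hG 6 y)⁻¹) * (hA.hG 7 x)⁻¹ := by group
  rw [e, h1 6 (by decide) y hy, h1 7 (by decide) x hx, mul_assoc]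

theorem hG8_eq {z : K} (hz : z ≠ 0) : hA.hG 8 z = hh hA z (z ^ 3) := by
  apply Units.ext
  rw [coe_hG_diag hA (by decide) hz, coe_hh hA hz (pow_ne_zero _ hz)]
  apply dg_congr
  intro s hs
  have h : ∀ s < 12, chevG2.pairing 8 s = chevG2.pairing 7 s + 3 * chevG2.pairing 6 s := by decide +kernel
  unfold hhChi
  rw [h s hs, zpow_add₀ hz, _root_.zpow_mul, zpow_ofNat]

theorem hG10_eq {z : K} (hz : z ≠ 0) : hA.hG 10 z = hh hA z z := by
  apply Units.ext
  rw [coe_hG_diag hA (by decide) hz, coe_hh hA hz hz]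
  apply dg_congr
  intro s hs
  have h : ∀ s < 12, chevG2.pairing 10 s = chevG2.pairing 7 s + chevG2.pairing 6 s := by decide +kernel
  unfold hhChi
  rw [h s hs, zpow_add₀ hz]

end torus

end Cfsg.Agent.Lib.Helper22
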