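import Cfsg.Agent.Lib.Helper22.Ree7

set_option autoImplicit false
set_option maxRecDepth 100000

namespace Cfsg.Agent.Lib.Helper22
open Cfsg.Lie Matrix Cfsg.Agent.Lib.Helper23 Cfsg.Agent.Lib.Helper45

section ids
variable {K : Type*} [Field K] [CharP K 3] (hA : AddFact chevG2 K)

/-- the elements of `V¹`. -/
noncomputable def reeV (hA : AddFact chevG2 K) (m : ℕ) (t u v : K) : GL chevG2.Idx K :=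
  hA.W (reeW 4 5 3 2 1 0 (-1) (reeTh K m) t u v)

theorem reeU_mem' (m : ℕ) (t u v : K) : reeU hA m t u v ∈ twistedG2 K (3 ^ m) := reeU_mem hA m t u v
theorem reeV_mem' (m : ℕ) (t u v : K) : reeV hA m t u v ∈ twistedG2 K (3 ^ m) := reeV_mem hA m t u v

theorem reeU_0u0 (m : ℕ) (u : K) : reeU hA m 0 u 0 = hA.X 8 (reeTh K m u) * hA.X 10 u := by
  simp [reeU, reeW, AddFact.W]

theorem reeV_0u0 (m : ℕ) (u : K) : reeV hA m 0 u 0 = hA.X 3 (-reeTh K m u) * hA.X 1 (-u) := by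
  simp [reeV, reeW, AddFact.W]

theorem ree_h810 {a c : K} (ha : a ≠ 0) (hc : c ≠ 0) :
    hA.hG 8 a * hA.hG 10 c = (hA.X 8 a * hA.X 10 c) * (hA.X 3 (-a⁻¹) * hA.X 1 (-c⁻¹)) * (hA.X 8 a * hA.X 10 c) *
      ((hA.X 8 (-1) * hA.X 10 (-1)) * (hA.X 3 1 * hA.X 1 1) * (hA.X 8 (-1) * hA.X 10 (-1))) := by
  have h := W_eq_of_checkIdNP tbG2_valid 3 hA
    (w1 := [(8, ⟨2, 1, 0, 0, 0⟩), (3, ⟨3, 0, 1, 0, 0⟩), (8, ⟨2, 1, 0, 0, 0⟩),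
      (8, ⟨3, 0, 0, 0, 0⟩), (3, ⟨2, 0, 0, 0, 0⟩), (8, ⟨3, 0, 0, 0, 0⟩),
      (10, ⟨2, 0, 0, 1, 0⟩), (1, ⟨3, 0, 0, 0, 1⟩), (10, ⟨2, 0, 0, 1, 0⟩),
      (10, ⟨3, 0, 0, 0, 0⟩), (1, ⟨2, 0, 0, 0, 0⟩), (10, ⟨3, 0, 0, 0, 0⟩)])
    (w2 := [(8, ⟨2, 1, 0, 0, 0⟩), (10, ⟨2, 0, 0, 1, 0⟩), (3, ⟨3, 0, 1, 0, 0⟩), (1, ⟨3, 0, 0, 0, 1⟩),
      (8, ⟨2, 1, 0, 0, 0⟩), (10, ⟨2, 0, 0, 1, 0⟩),
      (8, ⟨3, 0, 0, 0, 0⟩), (10, ⟨3, 0, 0, 0, 0⟩), (3, ⟨2, 0, 0, 0, 0⟩), (1, ⟨2, 0, 0, 0, 0⟩),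
      (8, ⟨3, 0, 0, 0, 0⟩), (10, ⟨3, 0, 0, 0, 0⟩)])
    (by decide) (by decide) (by decide +kernel) ⟨a, a⁻¹, c, c⁻¹, mul_inv_cancel₀ ha⟩
  have e1 : Mono.eval (⟨a, a⁻¹, c, c⁻¹, mul_inv_cancel₀ ha⟩ : Env K) ⟨2, 1, 0, 0, 0⟩ = a := by
    simp [Mono.eval, dc_two]
  have e2 : Mono.eval (⟨a, a⁻¹, c, c⁻¹, mul_inv_cancel₀ ha⟩ : Env K) ⟨3, 0, 1, 0, 0⟩ = -a⁻¹ := by
    simp [Mono.eval, dc_three]
  have e3 : Mono.eval (⟨a, a⁻¹, c, c⁻¹, mul_inv_cancel₀ ha⟩ : Env K) ⟨2, 0, 0, 1, 0⟩ = c := by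
    simp [Mono.eval, dc_two]
  have e4 : Mono.eval (⟨a, a⁻¹, c, c⁻¹, mul_inv_cancel₀ ha⟩ : Env K) ⟨3, 0, 0, 0, 1⟩ = -c⁻¹ := by
    simp [Mono.eval, dc_three]
  have e5 : Mono.eval (⟨a, a⁻¹, c, c⁻¹, mul_inv_cancel₀ ha⟩ : Env K) ⟨3, 0, 0, 0, 0⟩ = -1 := by
    simp [Mono.eval, dc_three]
  have e6 : Mono.eval (⟨a, a⁻¹, c, c⁻¹, mul_inv_cancel₀ ha⟩ : Env K) ⟨2, 0, 0, 0, 0⟩ = 1 := by
    simp [Mono.eval, dc_two]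
  simp only [AddFact.W, List.map_cons, List.map_nil, List.prod_cons, List.prod_nil, mul_one, e1, e2, e3, e4, e5,
    e6] at h
  have n8 : chevG2.neg 8 = 3 := by decide
  have n10 : chevG2.neg 10 = 1 := by decide
  unfold AddFact.hG AddFact.nG
  rw [n8, n10]
  have i1 : -(-1 : K)⁻¹ = 1 := by norm_num
  rw [i1]
  simp only [mul_assoc] at h ⊢
  exact h

theorem ree_h810_mem (m : ℕ) {c : K} (hc : c ≠ 0) :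
    hA.hG 8 (reeTh K m c) * hA.hG 10 c ∈ twistedG2 K (3 ^ m) := by
  rw [ree_h810 hA ((map_ne_zero _).2 hc) hc]
  have e1 : hA.X 8 (reeTh K m c) * hA.X 10 c = reeU hA m 0 c 0 := (reeU_0u0 hA m c).symm
  have e2 : hA.X 3 (-(reeTh K m c)⁻¹) * hA.X 1 (-c⁻¹) = reeV hA m 0 c⁻¹ 0 := by
    rw [reeV_0u0, map_inv₀]
  have e3 : hA.X 8 (-1) * hA.X 10 (-1) = reeU hA m 0 (-1) 0 := by
    rw [reeU_0u0, map_neg, map_one]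
  have e4 : hA.X 3 1 * hA.X 1 1 = reeV hA m 0 (-1) 0 := by
    rw [reeV_0u0, map_neg, map_one, neg_neg]
  rw [e1, e2, e3, e4]
  exact mul_mem (mul_mem (mul_mem (reeU_mem' hA m _ _ _) (reeV_mem' hA m _ _ _)) (reeU_mem' hA m _ _ _))
    (mul_mem (mul_mem (reeU_mem' hA m _ _ _) (reeV_mem' hA m _ _ _)) (reeU_mem' hA m _ _ _))

/-- the involution of `H¹` as a product of generators. -/
theorem ree_j_eq (m : ℕ) : hh hA (-1) (-1) =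
    reeU hA m 0 0 1 * reeV hA m 0 0 1 * reeU hA m 1 1 1 * reeV hA m (-1) 1 (-1) := by
  have h := W_eq_of_checkIdNP tbG2_valid 3 hA
    (w1 := [(7, ⟨3, 0, 0, 0, 0⟩), (4, ⟨2, 0, 0, 0, 0⟩), (7, ⟨3, 0, 0, 0, 0⟩),
      (7, ⟨3, 0, 0, 0, 0⟩), (4, ⟨2, 0, 0, 0, 0⟩), (7, ⟨3, 0, 0, 0, 0⟩),
      (6, ⟨3, 0, 0, 0, 0⟩), (5, ⟨2, 0, 0, 0, 0⟩), (6, ⟨3, 0, 0, 0, 0⟩),
      (6, ⟨3, 0, 0, 0, 0⟩), (5, ⟨2, 0, 0, 0, 0⟩), (6, ⟨3, 0, 0, 0, 0⟩)])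
    (w2 := [(9, ⟨2, 0, 0, 0, 0⟩), (11, ⟨2, 0, 0, 0, 0⟩), (2, ⟨3, 0, 0, 0, 0⟩), (0, ⟨3, 0, 0, 0, 0⟩),
      (7, ⟨2, 0, 0, 0, 0⟩), (6, ⟨2, 0, 0, 0, 0⟩), (8, ⟨4, 0, 0, 0, 0⟩), (9, ⟨4, 0, 0, 0, 0⟩),
      (10, ⟨2, 0, 0, 0, 0⟩), (11, ⟨2, 0, 0, 0, 0⟩),
      (4, ⟨2, 0, 0, 0, 0⟩), (5, ⟨2, 0, 0, 0, 0⟩), (3, ⟨5, 0, 0, 0, 0⟩), (2, ⟨4, 0, 0, 0, 0⟩),
      (1, ⟨3, 0, 0, 0, 0⟩), (0, ⟨2, 0, 0, 0, 0⟩)])
    (by decide) (by decide) (by decide +kernel) (envTU 0 0)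
  have e1 : Mono.eval (envTU (0 : K) 0) ⟨2, 0, 0, 0, 0⟩ = 1 := by simp [Mono.eval, dc_two]
  have e2 : Mono.eval (envTU (0 : K) 0) ⟨3, 0, 0, 0, 0⟩ = -1 := by simp [Mono.eval, dc_three]
  have e3 : Mono.eval (envTU (0 : K) 0) ⟨4, 0, 0, 0, 0⟩ = 1 + 1 := by
    have : dc 4 = 2 := by decide
    simp [Mono.eval, this]; norm_num
  have e4 : Mono.eval (envTU (0 : K) 0) ⟨5, 0, 0, 0, 0⟩ = -1 + -1 := by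
    have : dc 5 = -2 := by decide
    simp [Mono.eval, this]; norm_num
  simp only [AddFact.W, List.map_cons, List.map_nil, List.prod_cons, List.prod_nil, mul_one, e1, e2, e3, e4] at h
  have n7 : chevG2.neg 7 = 4 := by decide
  have n6 : chevG2.neg 6 = 5 := by decide
  have i1 : -(-1 : K)⁻¹ = 1 := by norm_num
  unfold hh AddFact.hG AddFact.nG
  rw [n7, n6, i1]
  simp only [reeU, reeV, reeW, AddFact.W, List.map_cons, List.map_nil, List.prod_cons, List.prod_nil, map_zero,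
    map_one, map_neg, mul_zero, add_zero, zero_add, hA.X_zero, one_mul, mul_one, ne_eq, OfNat.ofNat_ne_zero,
    not_false_eq_true, zero_pow, one_pow, neg_mul, neg_neg, mul_neg, even_two, Even.neg_pow]
  simp only [mul_assoc] at h ⊢
  exact h

end ids

end Cfsg.Agent.Lib.Helper22
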