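import Cfsg.Agent.Lib.Helper22.Ree8

set_option autoImplicit false
set_option maxRecDepth 100000

namespace Cfsg.Agent.Lib.Helper22
open Cfsg.Lie Matrix Cfsg.Agent.Lib.Helper23 Cfsg.Agent.Lib.Helper45

theorem three_pow_mod_four (m : ℕ) : 3 ^ (2 * m + 1) % 4 = 3 := by
  rw [pow_succ, pow_mul, Nat.mul_mod, Nat.pow_mod]
  norm_num

section sq
variable {K : Type*} [Field K] [CharP K 3] [Fintype K] {m : ℕ} (hK : Fintype.card K = 3 ^ (2 * m + 1))
include hK

/-- every non-zero element is plus or minus a square. -/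
theorem exists_sq_or_neg_sq {y : K} (hy : y ≠ 0) : ∃ z : K, z ≠ 0 ∧ (y = z ^ 2 ∨ y = -z ^ 2) := by
  have hF : ringChar K ≠ 2 := by rw [ringChar.eq K 3]; decide
  have hodd : Odd (Fintype.card K / 2) := by
    have := three_pow_mod_four m
    rw [hK, Nat.odd_iff]
    omega
  rcases FiniteField.pow_dichotomy hF hy with h | h
  · obtain ⟨z, hz⟩ := (FiniteField.isSquare_iff hF hy).2 h
    refine ⟨z, ?_, Or.inl (by rw [hz]; ring)⟩
    rintro rfl
    exact hy (by rw [hz]; ring)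
  · have h' : (-y) ^ (Fintype.card K / 2) = 1 := by
      rw [neg_pow, hodd.neg_one_pow, h]; ring
    obtain ⟨z, hz⟩ := (FiniteField.isSquare_iff hF (neg_ne_zero.2 hy)).2 h'
    refine ⟨z, ?_, Or.inr (by rw [pow_two, ← hz]; ring)⟩
    rintro rfl
    exact hy (by simpa using hz)

end sq

section sigma
variable {K : Type*} [Field K] [CharP K 3] [Fintype K] {m : ℕ} (hK : Fintype.card K = 3 ^ (2 * m + 1))
  (b : Bundle chevG2 K) (α : ↥(chevG2.group K) ≃* ↥(chevG2.group K))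
  (hα : ∀ r < 12, ∀ t : K,
    (α ⟨b.hA.X r t, b.hA.X_mem_group r t⟩ : GL chevG2.Idx K) = b.hA.X (isoRhoG2 r) (t ^ isoLamG2 r))

/-- the elements of `H¹`. -/
noncomputable def reeH (hA : AddFact chevG2 K) (m : ℕ) (y : K) : GL chevG2.Idx K := hh hA (reeTh K m y) y

include hK hα in
theorem ree_map_hG {r : ℕ} (hr : r < 12) {t : K} (ht : t ≠ 0) :
    reeSigma b α m (b.hA.hG r t) = b.hA.hG (isoRhoG2 r) ((reeTh K m t) ^ isoLamG2 r) := by
  have hσ := ree_isTwist hK b α hα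
  unfold AddFact.hG
  rw [hσ.mul _ (b.hA.nG_mem_group _ _) _ (b.hA.nG_mem_group _ _), hσ.map_nG b hr ht,
    hσ.map_nG b hr (by simp : (-1 : K) ≠ 0)]
  congr 2
  rw [map_neg, map_one]
  rcases lamF_cases 3 isoITG2 r with h | h
  · show (-1 : K) ^ lamF 3 isoITG2 r = -1
    rw [h, pow_one]
  · show (-1 : K) ^ lamF 3 isoITG2 r = -1
    rw [h]; ring

include hK hα in
theorem ree_sigma_hh {x y : K} (hx : x ≠ 0) (hy : y ≠ 0) :
    reeSigma b α m (hh b.hA x y) = hh b.hA (reeTh K m y) (reePs K m x) := by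
  have hσ := ree_isTwist hK b α hα
  obtain ⟨-, -, -, -, -, -, r6, r7, -, -, -, -⟩ := rhoG2_vals
  obtain ⟨-, -, -, -, -, -, l6, l7, -, -, -, -⟩ := lamG2_vals
  unfold hh
  rw [hσ.mul _ (b.hA.hG_mem_group _ _) _ (b.hA.hG_mem_group _ _), ree_map_hG hK b α hα (by decide) hx,
    ree_map_hG hK b α hα (by decide) hy, r6, r7, l6, l7, pow_one, ← reePs_apply]
  exact b.hA.diag_comm b.hT (b.hA.hG_mem_diag (by decide) ((map_ne_zero _).2 hx))
    (b.hA.hG_mem_diag (by decide) ((map_ne_zero _).2 hy))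

include hK hα in
theorem ree_H_fix {h : GL chevG2.Idx K} (hh' : h ∈ chevG2.diagonalSubgroup K) (hfix : reeSigma b α m h = h) :
    ∃ y : K, y ≠ 0 ∧ h = reeH b.hA m y := by
  obtain ⟨x, y, hx, hy, rfl⟩ := exists_hh b.hA hh'
  rw [ree_sigma_hh hK b α hα hx hy] at hfix
  obtain ⟨h1, -⟩ := hh_inj b.hA ((map_ne_zero _).2 hy) ((map_ne_zero _).2 hx) hx hy hfix
  exact ⟨y, hy, by rw [← h1]; rfl⟩

omit [Fintype K] in
theorem reeH_mul (hA : AddFact chevG2 K) {y y' : K} (hy : y ≠ 0) (hy' : y' ≠ 0) :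
    reeH hA m y * reeH hA m y' = reeH hA m (y * y') := by
  unfold reeH
  rw [hh_mul hA ((map_ne_zero _).2 hy) hy ((map_ne_zero _).2 hy') hy', map_mul]

include hK in
theorem reeH_mem_aux (hA : AddFact chevG2 K) {s : K} (hs : s ≠ 0) :
    reeH hA m (reePs K m s * s) ∈ twistedG2 K (3 ^ m) := by
  have h := ree_h810_mem hA m hs
  have hs' : reeTh K m s ≠ 0 := (map_ne_zero _).2 hs
  rw [hG8_eq hA hs', hG10_eq hA hs, hh_mul hA hs' (pow_ne_zero _ hs') hs hs] at h
  unfold reeH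
  rw [map_mul, reeTh_reePs hK, reePs_apply, mul_comm s]
  exact h

include hK in
theorem reeH_mem (hA : AddFact chevG2 K) {y : K} (hy : y ≠ 0) : reeH hA m y ∈ twistedG2 K (3 ^ m) := by
  have hsq : ∀ z : K, z ≠ 0 → reeH hA m (z ^ 2) ∈ twistedG2 K (3 ^ m) := by
    intro z hz
    have h := reeH_mem_aux hK hA (s := reePs K m z * z⁻¹) (mul_ne_zero ((map_ne_zero _).2 hz) (inv_ne_zero hz))
    have e : reePs K m (reePs K m z * z⁻¹) * (reePs K m z * z⁻¹) = z ^ 2 := by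
      have e1 : reePs K m (reePs K m z) = z ^ 3 := by
        conv_lhs => rw [reePs_apply m z, map_pow, reePs_reeTh hK]
      have hz' : reePs K m z ≠ 0 := (map_ne_zero _).2 hz
      rw [map_mul, map_inv₀, e1]
      field_simp
    rwa [e] at h
  have hj : reeH hA m (-1) ∈ twistedG2 K (3 ^ m) := by
    unfold reeH
    rw [map_neg, map_one, ree_j_eq hA m]
    exact mul_mem (mul_mem (mul_mem (reeU_mem' hA m _ _ _) (reeV_mem' hA m _ _ _)) (reeU_mem' hA m _ _ _))
      (reeV_mem' hA m _ _ _)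
  obtain ⟨z, hz, rfl | rfl⟩ := exists_sq_or_neg_sq hK hy
  · exact hsq z hz
  · have : -z ^ 2 = -1 * z ^ 2 := by ring
    rw [this, ← reeH_mul hA (by simp) (pow_ne_zero _ hz)]
    exact mul_mem hj (hsq z hz)

omit [Fintype K] in
theorem reeH_mem_diag (hA : AddFact chevG2 K) {y : K} (hy : y ≠ 0) : reeH hA m y ∈ chevG2.diagonalSubgroup K :=
  hh_mem_diag hA ((map_ne_zero _).2 hy) hy

include hK hα in
theorem mem_reeH1_iff (g : GL chevG2.Idx K) :
    g ∈ chevG2.diagonalSubgroup K ⊓ twistedG2 K (3 ^ m) ↔ ∃ y : K, y ≠ 0 ∧ g = reeH b.hA m y := by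
  constructor
  · rintro ⟨h1, h2⟩
    exact ree_H_fix hK b α hα h1 (ree_G1_fix hK b α hα h2).2
  · rintro ⟨y, hy, rfl⟩
    exact ⟨reeH_mem_diag b.hA hy, reeH_mem hK b.hA hy⟩

omit [Fintype K] in
theorem reeH_inj (hA : AddFact chevG2 K) {y y' : K} (hy : y ≠ 0) (hy' : y' ≠ 0) (h : reeH hA m y = reeH hA m y') :
    y = y' :=
  (hh_inj hA ((map_ne_zero _).2 hy) hy ((map_ne_zero _).2 hy') hy' h).2

/-- the isomorphism `Kˣ ≃ H¹`. -/
noncomputable def reeHhom (hA : AddFact chevG2 K) (m : ℕ) : Kˣ →* GL chevG2.Idx K where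
  toFun y := reeH hA m (y : K)
  map_one' := by
    show reeH hA m 1 = 1
    unfold reeH hh
    rw [map_one, hA.hG_one, hA.hG_one, one_mul]
  map_mul' y y' := by
    show reeH hA m ((y * y' : Kˣ) : K) = _
    rw [Units.val_mul, reeH_mul hA y.ne_zero y'.ne_zero]

include hK hα in
theorem reeHhom_range : (reeHhom b.hA m).range = chevG2.diagonalSubgroup K ⊓ twistedG2 K (3 ^ m) := by
  ext g
  rw [mem_reeH1_iff hK b α hα]
  constructor
  · rintro ⟨y, rfl⟩
    exact ⟨y, y.ne_zero, rfl⟩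
  · rintro ⟨y, hy, rfl⟩
    exact ⟨Units.mk0 y hy, rfl⟩

omit [Fintype K] in
theorem reeHhom_inj (hA : AddFact chevG2 K) : Function.Injective (reeHhom hA m) := by
  intro y y' h
  exact Units.ext (reeH_inj hA y.ne_zero y'.ne_zero h)

include hK hα in
theorem card_reeH1 : Nat.card ↥(chevG2.diagonalSubgroup K ⊓ twistedG2 K (3 ^ m)) = 3 ^ (2 * m + 1) - 1 := by
  classical
  rw [← reeHhom_range hK b α hα, ← Nat.card_congr (MonoidHom.ofInjective (reeHhom_inj b.hA)).toEquiv,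
    Nat.card_eq_fintype_card, Fintype.card_units, hK]

include hK hα in
theorem isCyclic_reeH1 : IsCyclic ↥(chevG2.diagonalSubgroup K ⊓ twistedG2 K (3 ^ m)) := by
  rw [← reeHhom_range hK b α hα]
  exact isCyclic_of_surjective (reeHhom b.hA m).rangeRestrict (reeHhom b.hA m).rangeRestrict_surjective

end sigma

end Cfsg.Agent.Lib.Helper22
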