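import Cfsg.Agent.Lib.Helper22.USgn
import Cfsg.Agent.Lib.Helper22.ChevTabE7

set_option autoImplicit false
set_option maxRecDepth 1000000
set_option maxHeartbeats 0

namespace Cfsg.Agent.Lib.Helper22

def lvE7 : ℕ := 0x4000000040a0154940566e904055feff4055f66a4055f5c14055f5b44055f5b340504c0d40504b6440504b5740504b56405042cf405042c2405042c140504219405042184050420b404fd33e404fd331404fd330404fd288404fd287404fd27a404fc9f3404fc9f2404fc9e5404fc93c404a1f96404a1f95404a1f88404a1edf404a164a4049a6b940062c8540062c7840062c7740062bcf40062bce40062bc14006233a400623394006232c400622834005b3a94005b3a84005b39b4005b2f24005aa5d400078dd400078dc400078cf4000782640006f914000094c4000094b4000093e40000895400000b7400000b6400000a94000000e4000000d400000013fffffff3ffffff33ffffff23fffff573fffff4a3fffff493ffff76b3ffff6c23ffff6b53ffff6b43fff906f3fff87da3fff87313fff87243fff87233ffa55a33ffa4d0e3ffa4c653ffa4c583ffa4c573ff9dd7d3ff9dcd43ff9dcc73ff9dcc63ff9d43f3ff9d4323ff9d4313ff9d3893ff9d3883ff9d37b3fb659473fb5e9b63fb5e1213fb5e0783fb5e06b3fb5e06a3fb036c43fb0361b3fb0360e3fb0360d3fb02d863fb02d793fb02d783fb02cd03fb02ccf3fb02cc23fafbdf53fafbde83fafbde73fafbd3f3fafbd3e3fafbd313fafb4aa3fafb4a93fafb49c3fafb3f33faa0a4d3faa0a4c3faa0a3f3faa09963faa01013fa991703f5feab7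

theorem udegE7_0 : allRange 63 32 (degChk tbE7 lvE7) = true := by
  decide +kernel

theorem udegE7_1 : allRange 95 31 (degChk tbE7 lvE7) = true := by
  decide +kernel

theorem udegE7 (s : ℕ) (hs : s < 126) (h : 126 ≤ 2 * s) : degChk tbE7 lvE7 s = true := by
  rcases Nat.lt_or_ge s 95 with h0 | h0
  · exact allRange_iff.1 udegE7_0 s (by omega) (by omega)
  exact allRange_iff.1 udegE7_1 s (by omega) (by omega)

theorem uc1E7_0 : allRange 63 32 (c1Chk (ct1 tbE7) 126) = true := by
  decide +kernel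

theorem uc1E7_1 : allRange 95 31 (c1Chk (ct1 tbE7) 126) = true := by
  decide +kernel

theorem uc1E7 (s : ℕ) (hs : s < 126) (h : 126 ≤ 2 * s) : c1Chk (ct1 tbE7) 126 s = true := by
  rcases Nat.lt_or_ge s 95 with h0 | h0
  · exact allRange_iff.1 uc1E7_0 s (by omega) (by omega)
  exact allRange_iff.1 uc1E7_1 s (by omega) (by omega)

theorem ulvE7_0 : allRange 63 63 (lvChk 126 lvE7) = true := by
  decide +kernel

theorem uprimE7_0 : allBelow 126 (primChk tbE7) = true := by
  decide +kernel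

theorem usgnE7_0 : allBelow 126 (sgnChk tbE7) = true := by
  decide +kernel

theorem usgnE7 (r : ℕ) (hr : r < 126) : sgnChk tbE7 r = true := allBelow_iff.1 usgnE7_0 r hr

theorem utabE7 : UTabOK tbE7 lvE7 (ct1 tbE7) where
  hdeg := udegE7
  hlv := fun r hr h => allRange_iff.1 ulvE7_0 r (by have : 126 ≤ 2 * r := h; omega) (by have : r < 126 := hr; omega)
  hprim := fun r hr => allBelow_iff.1 uprimE7_0 r hr
  hc1 := uc1E7

end Cfsg.Agent.Lib.Helper22
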